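import Cfsg.Agent.Lib.Sixteen80.Mult
import Cfsg.Agent.Lib.DegreeBounds.Jordan
import Cfsg.Agent.Lib.Characters.Diag
import Mathlib.Analysis.SpecialFunctions.Trigonometric.Bounds

/-!
# Scalar elements, determinants and elements close to scalars
-/

set_option autoImplicit false
set_option linter.unusedSectionVars false
set_option linter.style.haveILetI false

namespace Cfsg.Agent.Lib.Small80.Basic

open Cfsg.Agent.Lib Cfsg.Agent.Lib.FirstPower Average Periods Cfsg.Agent.Lib.Characters.Basic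
open Sixteen80.Mult
open Cfsg.Agent.Lib.DegreeBounds.Jordan
open scoped ComplexConjugate

universe u

variable {p : ℕ} [Fact p.Prime] {G : Type u} [Group G] [Finite G]

theorem chr_mul_nat (a : ZMod p) (k : ℕ) : chr p (a * k) = chr p a ^ k := by
  induction k with
  | zero => rw [Nat.cast_zero, mul_zero, chr_zero, pow_zero]
  | succ k ih => rw [Nat.cast_succ, mul_add, mul_one, chr_add, ih, pow_succ]

theorem chr_inj {a b : ZMod p} (e : chr p a = chr p b) : a = b :=
  ZMod.val_injective p ((Periods.root_spec (p := p)).pow_inj (ZMod.val_lt _) (ZMod.val_lt _) e)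

theorem chr_sum {ι : Type*} (s : Finset ι) (k : ι → ZMod p) :
    chr p (∑ i ∈ s, k i) = ∏ i ∈ s, chr p (k i) := by
  classical
  induction s using Finset.induction_on with
  | empty => simp [chr_zero]
  | insert i s hi ih => rw [Finset.sum_insert hi, Finset.prod_insert hi, chr_add, ih]

theorem chr_pow_self (a : ZMod p) : chr p a ^ p = 1 := by
  rw [← chr_mul_nat, ZMod.natCast_self, mul_zero, chr_zero]

/-- Two scalar elements. -/
theorem scal_mul {θ : G → ℂ} {a b : G} {r s : ℂ} (ha : ∀ g, θ (g * a) = r * θ g)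
    (hb : ∀ g, θ (g * b) = s * θ g) (g : G) : θ (g * (a * b)) = r * s * θ g := by
  rw [← mul_assoc, hb, ha]
  ring

theorem scal_pow {θ : G → ℂ} {a : G} {r : ℂ} (ha : ∀ g, θ (g * a) = r * θ g) (k : ℕ) (g : G) :
    θ (g * a ^ k) = r ^ k * θ g := by
  induction k generalizing g with
  | zero => simp
  | succ k ih => rw [pow_succ, ← mul_assoc, ha, ih, pow_succ]; ring

/-- A single eigenvalue means a scalar. -/
theorem scal_of_full (θ : Cfsg.IrrCharacter G) {a : G} (ha : a ^ p = 1) {l : ZMod p}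
    (hl : mlt p (θ : G → ℂ) a l = Cfsg.charDegree (θ : G → ℂ)) :
    ∀ g, (θ : G → ℂ) (g * a) = chr p l * (θ : G → ℂ) g := by
  obtain ⟨d, σ, -, hσθ⟩ := exists_rep θ
  obtain ⟨W, hW, hWm⟩ := exists_eigen σ ha l
  have hd : Cfsg.charDegree (θ : G → ℂ) = d := by
    have h0 : (θ : G → ℂ) 1 = d := by
      rw [← hσθ, Representation.char_one, Module.finrank_fin_fun]
    rw [DegreeBounds.Basic.charDegree_irr] at h0
    exact_mod_cast h0
  rw [hσθ, hl, hd] at hW
  have htop : W = ⊤ := Submodule.eq_top_of_finrank_eq (by rw [hW, Module.finrank_fin_fun])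
  have hs : σ a = chr p l • 1 := LinearMap.ext fun w => by
    rw [(hWm w).1 (htop ▸ Submodule.mem_top), LinearMap.smul_apply, Module.End.one_apply]
  intro g
  rw [← hσθ, Representation.character, Representation.character, map_mul, hs, mul_smul_comm,
    mul_one, map_smul, smul_eq_mul]

/-- A scalar has a single eigenvalue. -/
theorem mlt_of_scal (θ : Cfsg.IrrCharacter G) {a : G} {m : ZMod p}
    (hs : ∀ g, (θ : G → ℂ) (g * a) = chr p m * (θ : G → ℂ) g) (l : ZMod p) :
    mlt p (θ : G → ℂ) a l = if l = m then Cfsg.charDegree (θ : G → ℂ) else 0 := by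
  classical
  refine mlt_eq (c := fun l => if l = m then Cfsg.charDegree (θ : G → ℂ) else 0) (fun z => ?_) l
  rw [← one_mul (a ^ z.val), scal_pow hs, ← chr_mul_nat, ZMod.natCast_zmod_val,
    DegreeBounds.Basic.charDegree_irr θ]
  simp [Finset.sum_ite_eq', mul_comm]

/-- A commutator with a scalar element. -/
theorem commutator_of_scal {θ : Cfsg.IrrCharacter G} {a : G} (hs : Scal (θ : G → ℂ) a) (b : G) :
    (θ : G → ℂ) (b * a * b⁻¹ * a⁻¹) = (θ : G → ℂ) 1 := by
  haveI := BlocksChars5.Basic.charKer_normal θ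
  have h1 := (BlocksChars5.Basic.mem_charKer θ _).2 (hs.commutator b)
  have h2 := (BlocksChars5.Basic.mem_charKer θ _).1 (inv_mem h1)
  rwa [show (a * b * a⁻¹ * b⁻¹)⁻¹ = b * a * b⁻¹ * a⁻¹ by group] at h2

/-- An eigenbasis of an element of order dividing `p`. -/
theorem exists_diag {d : ℕ} (ρ : Representation ℂ G (Fin d → ℂ)) {a : G} (ha : a ^ p = 1) :
    ∃ (ι : Type) (_ : Fintype ι) (b : Module.Basis ι ℂ (Fin d → ℂ)) (k : ι → ZMod p),
      (∀ i, ρ a (b i) = chr p (k i) • b i) ∧
      ∀ l, mlt p ρ.character a l = Nat.card {i // k i = l} := by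
  classical
  obtain ⟨ι, hι, b, z, hz, -, -⟩ :=
    Characters.Diag.exists_eigenbasis ρ a (Fact.out : p.Prime).ne_zero ha
  choose k hk hk' using fun i => (Periods.root_spec (p := p)).eq_pow_of_pow_eq_one (hz i).2
  have hz' : ∀ i, z i = chr p (k i : ZMod p) := fun i => by rw [chr_natCast, hk']
  refine ⟨ι, hι, b, fun i => (k i : ZMod p), fun i => by rw [← hz']; exact (hz i).1, fun l => ?_⟩
  refine mlt_eq (c := fun l => Nat.card {i // (k i : ZMod p) = l}) (fun w => ?_) l
  have hpow : ∀ (n : ℕ) i, ρ (a ^ n) (b i) = z i ^ n • b i := by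
    intro n i
    induction n with
    | zero => simp
    | succ n ih =>
      rw [pow_succ, map_mul, Module.End.mul_apply, (hz i).1, map_smul, ih, smul_smul, pow_succ']
  rw [show ρ.character (a ^ w.val) = ∑ i, z i ^ w.val from
    Characters.Diag.trace_eq_sum_eigenvalues b _ _ (hpow w.val),
    ← Finset.sum_fiberwise Finset.univ (fun i => (k i : ZMod p))]
  refine Finset.sum_congr rfl fun m _ => ?_
  rw [Finset.sum_congr rfl (g := fun _ => chr p (m * w)) fun i hi => ?_, Finset.sum_const,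
    nsmul_eq_mul, Nat.card_eq_fintype_card, Fintype.card_subtype]
  rw [hz', ← chr_mul_nat, ZMod.natCast_zmod_val, (Finset.mem_filter.1 hi).2]

/-- The determinant from the multiplicities. -/
theorem det_eq {d : ℕ} (ρ : Representation ℂ G (Fin d → ℂ)) {a : G} (ha : a ^ p = 1) :
    LinearMap.det (ρ a) = chr p (∑ l, (mlt p ρ.character a l : ZMod p) * l) := by
  classical
  obtain ⟨ι, hι, b, k, hb, hm⟩ := exists_diag ρ ha
  rw [← LinearMap.det_toMatrix b, show LinearMap.toMatrix b b (ρ a) =
    Matrix.diagonal (fun i => chr p (k i)) from ?_, Matrix.det_diagonal, ← chr_sum]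
  · congr 1
    rw [← Finset.sum_fiberwise Finset.univ k]
    refine Finset.sum_congr rfl fun l _ => ?_
    rw [Finset.sum_congr rfl (g := fun _ => l) fun i hi => (Finset.mem_filter.1 hi).2,
      Finset.sum_const, nsmul_eq_mul, hm, Nat.card_eq_fintype_card, Fintype.card_subtype]
  · refine Matrix.ext fun i j => ?_
    rw [LinearMap.toMatrix_apply, hb, map_smul, Finsupp.smul_apply, Module.Basis.repr_self,
      smul_eq_mul, Finsupp.single_apply, Matrix.diagonal_apply]
    by_cases h : i = j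
    · subst h; simp
    · simp [h, Ne.symm h]

/-- The determinant is trivial on commutators. -/
theorem det_of_commutator {d : ℕ} (ρ : Representation ℂ G (Fin d → ℂ)) {a : G}
    (ha : a ∈ commutator G) : LinearMap.det (ρ a) = 1 := by
  let F : G →* ℂˣ := MonoidHom.toHomUnits (LinearMap.det.comp ρ)
  exact congrArg Units.val (Abelianization.commutator_subset_ker F ha : F a = 1)

/-- The exponents of an element of the derived group sum to zero. -/
theorem sum_eq_zero (θ : Cfsg.IrrCharacter G) {a : G} (ha : a ^ p = 1)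
    (hc : a ∈ commutator G) : ∑ l, (mlt p (θ : G → ℂ) a l : ZMod p) * l = 0 := by
  obtain ⟨d, σ, -, hσθ⟩ := exists_rep θ
  have h := det_eq σ ha
  rw [det_of_commutator σ hc, hσθ, ← chr_zero (p := p)] at h
  exact (chr_inj h).symm

/-- An element with two eigenvalues close to each other is sharp. -/
theorem sharp_of_values [Fintype G] {d : ℕ} (ρ : Representation ℂ G (Fin d → ℂ)) {w : G} {N : ℕ} (hN : N ≠ 0)
    (hw : w ^ N = 1) {A B : ℂ} (hA : A ^ N = 1) (hB : B ^ N = 1) {m n : ℂ}
    (hval : ∀ k : ℕ, ρ.character (w ^ k) = m * A ^ k + n * B ^ k) {a : ℂ} {r : ℝ} (hr0 : 0 ≤ r)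
    (hr : r < 1 / 2) (hAa : ‖A - a‖ ≤ r) (hBa : ‖B - a‖ ≤ r) : Sharp ρ w := by
  classical
  obtain ⟨ι, hι, b, z, hz, -, -⟩ := Characters.Diag.exists_eigenbasis ρ w hN hw
  have hconj : ∀ u : ℂ, u ^ N = 1 → u ^ (N - 1) = conj u := by
    intro u hu
    rw [Characters.Diag.conj_eq_inv_of_pow hN hu]
    refine eq_inv_of_mul_eq_one_left ?_
    rw [← pow_succ, Nat.sub_add_cancel (Nat.pos_of_ne_zero hN), hu]
  have hpow : ∀ (n : ℕ) i, ρ (w ^ n) (b i) = z i ^ n • b i := by
    intro n i
    induction n with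
    | zero => simp
    | succ n ih =>
      rw [pow_succ, map_mul, Module.End.mul_apply, (hz i).1, map_smul, ih, smul_smul, pow_succ']
  have hsum : ∀ k, ∑ i, z i ^ k = m * A ^ k + n * B ^ k := fun k => by
    rw [← hval]
    exact (Characters.Diag.trace_eq_sum_eigenvalues b _ _ (hpow k)).symm
  let f : Polynomial ℂ := (Polynomial.X - Polynomial.C A) * (Polynomial.X - Polynomial.C B) *
    ((Polynomial.X ^ (N - 1) - Polynomial.C (conj A)) *
      (Polynomial.X ^ (N - 1) - Polynomial.C (conj B)))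
  have hev : ∀ u : ℂ, u ^ N = 1 → f.eval u = (Complex.normSq ((u - A) * (u - B)) : ℂ) := by
    intro u hu
    rw [← Complex.mul_conj]
    simp only [f, Polynomial.eval_mul, Polynomial.eval_sub, Polynomial.eval_pow, Polynomial.eval_X,
      Polynomial.eval_C, hconj u hu, map_mul, map_sub]
  have h0 : ∑ i, f.eval (z i) = 0 := by
    have h1 : ∀ u : ℂ, f.eval u = ∑ k ∈ Finset.range (f.natDegree + 1), f.coeff k * u ^ k :=
      fun u => Polynomial.eval_eq_sum_range u
    have h2 : ∑ i, f.eval (z i) = m * f.eval A + n * f.eval B := by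
      simp only [h1]
      rw [Finset.sum_comm, Finset.mul_sum, Finset.mul_sum, ← Finset.sum_add_distrib]
      refine Finset.sum_congr rfl fun k _ => ?_
      rw [← Finset.mul_sum, hsum]
      ring
    rw [h2, hev A hA, hev B hB]
    simp
  have h3 : ∀ i, z i = A ∨ z i = B := by
    intro i
    have h4 : ∑ i, Complex.normSq ((z i - A) * (z i - B)) = 0 := by
      have h5 : ((∑ i, Complex.normSq ((z i - A) * (z i - B)) : ℝ) : ℂ) = 0 := by
        rw [Complex.ofReal_sum, ← h0]
        exact Finset.sum_congr rfl fun i _ => (hev _ (hz i).2).symm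
      exact_mod_cast h5
    have h6 := (Finset.sum_eq_zero_iff_of_nonneg fun i _ => Complex.normSq_nonneg _).1 h4 i
      (Finset.mem_univ i)
    rcases mul_eq_zero.1 (Complex.normSq_eq_zero.1 h6) with h7 | h7
    · exact Or.inl (sub_eq_zero.1 h7)
    · exact Or.inr (sub_eq_zero.1 h7)
  refine ⟨a, r, hr0, hr, close_of_eigen ρ w a r b z (fun i => (hz i).1)
    (fun i => conj_mul_self_of_pow hN (hz i).2) hr0 fun i => ?_⟩
  rcases h3 i with h7 | h7 <;> rw [h7] <;> assumption

/-- A sharp element commutes with its conjugates. -/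
theorem commute_conj_of_sharp [Fintype G] {d : ℕ} (ρ : Representation ℂ G (Fin d → ℂ))
    (hinj : ∀ g : G, ρ g = 1 → g = 1) {w : G} (hs : Sharp ρ w) (g : G) :
    Commute w (g * w * g⁻¹) := by
  obtain ⟨a, r, hr0, hr, hc⟩ := hs
  exact commute_of_sharp ρ hinj ⟨a, r, hr0, hr, hc⟩ ⟨a, r, hr0, hr, close_conj ρ hc g⟩

/-- The point halfway to a primitive root. -/
theorem norm_half {t : ℝ} (ht : 0 ≤ t) :
    ‖Complex.exp (Complex.I * t) - 1‖ ≤ t ∧
      ‖Complex.exp (Complex.I * (2 * t : ℝ)) - Complex.exp (Complex.I * t)‖ ≤ t := by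
  have h1 : ‖Complex.exp (Complex.I * t) - 1‖ ≤ t :=
    Real.norm_exp_I_mul_ofReal_sub_one_le.trans_eq (abs_of_nonneg ht)
  refine ⟨h1, ?_⟩
  rw [show (Complex.I * ((2 * t : ℝ) : ℂ)) = Complex.I * t + Complex.I * t by push_cast; ring,
    Complex.exp_add, ← mul_sub_one, norm_mul, Complex.norm_exp_I_mul_ofReal, one_mul]
  exact h1

/-- An element with two eigenvalues commutes with its conjugates for `p` at least 7. -/
theorem commute_conj_of_two (hp7 : 7 ≤ p) (χ : Cfsg.IrrCharacter G)
    (hfaith : ∀ g : G, (χ : G → ℂ) g = (χ : G → ℂ) 1 → g = 1) {a : G} (ha : a ^ p = 1)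
    {l₁ l₂ : ZMod p} (h : ∀ l, l ≠ l₁ → l ≠ l₂ → mlt p (χ : G → ℂ) a l = 0) (g : G) :
    Commute a (g * a * g⁻¹) := by
  classical
  haveI := Fintype.ofFinite G
  obtain ⟨d, ρ, -, hρχ⟩ := exists_rep χ
  have hinj : ∀ g : G, ρ g = 1 → g = 1 := fun g hg => hfaith g (by
    rw [← hρχ, Representation.character, Representation.character, hg, map_one ρ])
  -- a power whose eigenvalues have consecutive exponents
  obtain ⟨j, hj0, hj⟩ : ∃ j : ZMod p, j ≠ 0 ∧ (l₂ = l₁ ∨ l₂ * j = l₁ * j + 1) := by
    by_cases e : l₂ = l₁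
    · exact ⟨1, one_ne_zero, Or.inl e⟩
    · exact ⟨(l₂ - l₁)⁻¹, inv_ne_zero (sub_ne_zero.2 e), Or.inr
        (by linear_combination mul_inv_cancel₀ (sub_ne_zero.2 e))⟩
  set w := a ^ j.val with hw
  have hwp : w ^ p = 1 := by rw [hw, ← pow_mul, mul_comm, pow_mul, ha, one_pow]
  set A := chr p (l₁ * j) with hA
  set B := chr p (l₂ * j) with hB
  set m : ℂ := (mlt p (χ : G → ℂ) a l₁ : ℂ) with hm
  set n : ℂ := if l₂ = l₁ then 0 else (mlt p (χ : G → ℂ) a l₂ : ℂ) with hn
  have hval : ∀ k : ℕ, ρ.character (w ^ k) = m * A ^ k + n * B ^ k := by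
    intro k
    rw [hρχ, hw, ← pow_mul, ← pow_val_natCast ha, Nat.cast_mul, ZMod.natCast_zmod_val,
      value (isCharacter_irr χ) ha, ← Finset.sum_subset (Finset.subset_univ {l₁, l₂}) fun l _ hl => by
        simp only [Finset.mem_insert, Finset.mem_singleton, not_or] at hl
        rw [h l hl.1 hl.2, Nat.cast_zero, zero_mul]]
    by_cases e : l₂ = l₁
    · rw [hn, if_pos e, e, Finset.insert_eq_of_mem (Finset.mem_singleton_self _),
        Finset.sum_singleton, hm, hA, ← chr_mul_nat, mul_assoc l₁]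
      ring
    · rw [Finset.sum_pair (Ne.symm e), hn, if_neg e, hm, hA, hB, ← chr_mul_nat, ← chr_mul_nat,
        mul_assoc l₁, mul_assoc l₂]
  set t : ℝ := Real.pi / p with ht
  have ht0 : 0 ≤ t := by positivity
  have ht2 : t < 1 / 2 := by
    have h7 : (7 : ℝ) ≤ p := by exact_mod_cast hp7
    rw [ht, div_lt_iff₀ (by linarith)]
    have := Real.pi_lt_d2
    linarith
  have hroot : chr p (1 : ZMod p) = Complex.exp (Complex.I * (2 * t : ℝ)) := by
    rw [← Nat.cast_one, chr_natCast, pow_one, Periods.root, ht]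
    congr 1
    push_cast
    ring
  have hsharp : Sharp ρ w := by
    refine sharp_of_values ρ (Fact.out : p.Prime).ne_zero hwp (chr_pow_self _) (chr_pow_self _)
      hval (a := A * Complex.exp (Complex.I * t)) ht0 ht2 ?_ ?_
    · rw [← hA, ← mul_one_sub, norm_mul,
        Complex.norm_eq_one_of_pow_eq_one (chr_pow_self _) (Fact.out : p.Prime).ne_zero, one_mul,
        norm_sub_rev]
      exact (norm_half ht0).1
    · rcases hj with e | e
      · rw [e, ← hA, ← mul_one_sub, norm_mul,
          Complex.norm_eq_one_of_pow_eq_one (chr_pow_self _) (Fact.out : p.Prime).ne_zero, one_mul,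
          norm_sub_rev]
        exact (norm_half ht0).1
      · rw [e, chr_add, ← hA, hroot, ← mul_sub, norm_mul,
          Complex.norm_eq_one_of_pow_eq_one (chr_pow_self _) (Fact.out : p.Prime).ne_zero, one_mul]
        exact (norm_half ht0).2
  have hc := (commute_conj_of_sharp ρ hinj hsharp g).pow_pow (j⁻¹).val (j⁻¹).val
  have e1 : w ^ (j⁻¹).val = a := by
    rw [hw, ← pow_val_mul ha, mul_inv_cancel₀ hj0, pow_val_one ha]
  rwa [e1, conj_pow, e1] at hc

end Cfsg.Agent.Lib.Small80.Basic
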