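import Cfsg.Agent.Lib.Small80.Center

/-!
# The borderline case `p = d + 2` of the bound on the multiplicities
-/

set_option autoImplicit false
set_option linter.unusedSectionVars false
set_option linter.style.haveILetI false

namespace Cfsg.Agent.Lib.Small80.Border

open Cfsg.Agent.Lib Cfsg.Agent.Lib.FirstPower Average Periods Cfsg.Agent.Lib.Characters.Basic
open Sixteen80.Mult
open Cfsg.Agent.Lib.Sixteen80.Reduce (exists_expand exists_separating deg_le mlt_restrict mlt_le)
open Small80.Reduce Small80.Center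
open Cfsg.Agent.Lib.DegreeBounds.Jordan

attribute [local instance] BlocksChars5.Basic.irrFintype

universe u

variable {p : ℕ} [Fact p.Prime] {G : Type u} [Group G] [Finite G] {χ : Cfsg.IrrCharacter G}

theorem two_ne_five : ((2 : ℕ) : ZMod 5) ≠ 0 := by decide

theorem three_ne_five : (3 : ZMod 5) ≠ 0 := by decide

/-- A sum in which all terms but one have the same value of one factor. -/
theorem split_values {H : Type u} [Group H] [Finite H] {F : H → ℂ}
    {n : Cfsg.IrrCharacter H → ℕ}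
    (hF : ∀ h : H, F h = ∑ θ : Cfsg.IrrCharacter H, (n θ : ℂ) * (θ : H → ℂ) h)
    {θ₀ : Cfsg.IrrCharacter H} {w : H} {A B : ℂ}
    (hA : ∀ g, (θ₀ : H → ℂ) (g * w) = A * (θ₀ : H → ℂ) g)
    (hB : ∀ θ, θ ≠ θ₀ → n θ ≠ 0 → ∀ g, (θ : H → ℂ) (g * w) = B * (θ : H → ℂ) g) :
    ∃ a b : ℂ, ∀ k : ℕ, F (w ^ k) = a * A ^ k + b * B ^ k := by
  classical
  refine ⟨(n θ₀ : ℂ) * (θ₀ : H → ℂ) 1, ∑ θ ∈ Finset.univ.erase θ₀, (n θ : ℂ) * (θ : H → ℂ) 1,
    fun k => ?_⟩
  rw [hF, ← Finset.add_sum_erase _ _ (Finset.mem_univ θ₀), Finset.sum_mul]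
  congr 1
  · rw [← one_mul (w ^ k), Basic.scal_pow hA]
    ring
  · refine Finset.sum_congr rfl fun θ hθ => ?_
    by_cases hn : n θ = 0
    · rw [hn, Nat.cast_zero, zero_mul, zero_mul, zero_mul]
    · rw [← one_mul (w ^ k), Basic.scal_pow (hB θ (Finset.ne_of_mem_erase hθ) hn)]
      ring

set_option maxHeartbeats 800000 in
/-- The borderline case. -/
theorem contradiction (C : Ctx p χ) (hsq : p ^ 2 ∣ Nat.card G) {H : Subgroup G}
    (htop : H ⊔ Subgroup.center G ≠ ⊤) {n : Cfsg.IrrCharacter H → ℕ}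
    (hexp : ∀ h : H, (χ : G → ℂ) (h : G) = ∑ θ : Cfsg.IrrCharacter H, (n θ : ℂ) * (θ : H → ℂ) h)
    (hsum : ∑ θ : Cfsg.IrrCharacter H, n θ * Cfsg.charDegree (θ : H → ℂ) =
      Cfsg.charDegree (χ : G → ℂ))
    {θ : Cfsg.IrrCharacter H} (hθ : n θ ≠ 0) {t t' : H} (ht : t ^ p = 1) (ht' : t' ^ p = 1)
    (hgen : Subgroup.closure ({t, t'} : Set H) = ⊤)
    (hne : (θ : H → ℂ) (t * t' * t⁻¹ * t'⁻¹) ≠ (θ : H → ℂ) 1)
    (hsame : ∀ m, mlt p (χ : G → ℂ) (t' : G) m = mlt p (χ : G → ℂ) (t : G) m)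
    {l : ZMod p} (hl : Cfsg.charDegree (χ : G → ℂ) + 1 ≤ 2 * mlt p (χ : G → ℂ) (t : G) l) :
    False := by
  classical
  have hp : p.Prime := Fact.out
  have hp5 := C.big
  have hdeg := C.deg
  have hmodd := Nat.odd_iff.1 (hp.odd_of_ne_two (by omega))
  have hdle : ∀ ψ : Cfsg.IrrCharacter H, n ψ ≠ 0 → Cfsg.charDegree (ψ : H → ℂ) + 1 < p :=
    fun ψ hψ => by have := deg_le hsum hψ; omega
  obtain ⟨-, hcount, hpair, -, hbord⟩ :=
    link C htop θ (hdle θ hθ) (PEl.of_pow_eq_one ht) (PEl.of_pow_eq_one ht') hne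
  have key : ∀ s : H, s ^ p = 1 → ¬ Scal (θ : H → ℂ) s →
      (∀ m, mlt p (χ : G → ℂ) (s : G) m = mlt p (χ : G → ℂ) (t : G) m) →
      2 * (supp p (θ : H → ℂ) s).card + 1 = p ∧ l ∈ supp p (θ : H → ℂ) s ∧
      2 * Cfsg.charDegree (θ : H → ℂ) + 1 = p ∧ n θ = 1 ∧
      Cfsg.charDegree (χ : G → ℂ) + 2 = p ∧
      ∀ ψ, ψ ≠ θ → n ψ ≠ 0 → ∀ g, (ψ : H → ℂ) (g * s) = chr p l * (ψ : H → ℂ) g := by
    intro s hs hns hms
    have hsp : (s : G) ^ p = 1 := by rw [← SubgroupClass.coe_pow, hs, OneMemClass.coe_one]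
    set Sθ := supp p (θ : H → ℂ) s with hSθ
    set Sχ := supp p (χ : G → ℂ) (s : G) with hSχ
    obtain ⟨hcard', -⟩ := hcount s hs hns
    have hcard : p ≤ 2 * Sθ.card + 1 := hcard'
    have hsub : Sθ ⊆ Sχ := fun m hm => by
      rw [hSθ, mem_supp] at hm
      rw [hSχ, mem_supp]
      have := mlt_le (p := p) hexp hs hθ m
      omega
    have hle := Finset.card_le_card hsub
    have hl1 : mlt p (χ : G → ℂ) (s : G) l ≠ 0 := by rw [hms]; omega
    have hlχ : l ∈ Sχ := mem_supp.2 hl1
    have hsumχ := sum_mlt (isCharacter_irr χ) hsp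
    rw [← Finset.add_sum_erase _ _ (Finset.mem_univ l), hms l] at hsumχ
    have h8 : (Sχ.erase l).card ≤ ∑ m ∈ Finset.univ.erase l, mlt p (χ : G → ℂ) (s : G) m := by
      rw [Finset.card_eq_sum_ones]
      exact le_trans (Finset.sum_le_sum fun m hm =>
          Nat.one_le_iff_ne_zero.2 (mem_supp.1 (Finset.mem_of_mem_erase hm)))
        (Finset.sum_le_sum_of_subset (Finset.erase_subset_erase l (Finset.subset_univ _)))
    rw [Finset.card_erase_of_mem hlχ] at h8
    have h9 : 2 * Sθ.card + 1 = p := by omega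
    have heq : Sθ = Sχ := Finset.eq_of_subset_of_card_le hsub (by omega)
    obtain ⟨hone, -⟩ := hbord s hs hns h9
    have hdθ : Cfsg.charDegree (θ : H → ℂ) = Sθ.card := by
      rw [← sum_mlt (isCharacter_irr θ) hs, Finset.card_eq_sum_ones,
        ← Finset.sum_subset (Finset.subset_univ Sθ) fun m _ hm => by
          rw [hSθ, mem_supp, not_not] at hm; exact hm]
      refine Finset.sum_congr rfl fun m hm => ?_
      have := hone m
      have := mem_supp.1 hm
      omega
    have hsimple : ∀ m ∈ Sχ, m ≠ l → mlt p (χ : G → ℂ) (s : G) m = 1 := by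
      intro m hm hml
      have hmem : m ∈ Finset.univ.erase l := Finset.mem_erase.2 ⟨hml, Finset.mem_univ m⟩
      rw [← Finset.add_sum_erase _ _ hmem] at hsumχ
      have h10 : ((Sχ.erase l).erase m).card ≤
          ∑ j ∈ (Finset.univ.erase l).erase m, mlt p (χ : G → ℂ) (s : G) j := by
        rw [Finset.card_eq_sum_ones]
        exact le_trans (Finset.sum_le_sum fun j hj => Nat.one_le_iff_ne_zero.2
            (mem_supp.1 (Finset.mem_of_mem_erase (Finset.mem_of_mem_erase hj))))
          (Finset.sum_le_sum_of_subset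
            (Finset.erase_subset_erase m (Finset.erase_subset_erase l (Finset.subset_univ _))))
      rw [Finset.card_erase_of_mem (Finset.mem_erase.2 ⟨hml, hm⟩),
        Finset.card_erase_of_mem hlχ] at h10
      have := mem_supp.1 hm
      omega
    obtain ⟨m₀, hm₀, hm₀l⟩ := Finset.exists_mem_ne (show 1 < Sχ.card by omega) l
    have hsplit : ∀ m, n θ * mlt p (θ : H → ℂ) s m +
        ∑ ψ ∈ Finset.univ.erase θ, n ψ * mlt p (ψ : H → ℂ) s m = mlt p (χ : G → ℂ) (s : G) m :=
      fun m => by rw [mlt_restrict hexp hs, ← Finset.add_sum_erase _ _ (Finset.mem_univ θ)]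
    have hnθ : n θ = 1 := by
      have h1 := hsplit m₀
      rw [hsimple m₀ hm₀ hm₀l] at h1
      have h2 : mlt p (θ : H → ℂ) s m₀ ≠ 0 := mem_supp.1 (show m₀ ∈ Sθ from heq ▸ hm₀)
      have h3 := Nat.le_mul_of_pos_right (n θ) (Nat.pos_of_ne_zero h2)
      omega
    refine ⟨h9, heq ▸ hlχ, by omega, hnθ, by omega, fun ψ hψ hnψ => ?_⟩
    refine Basic.scal_of_full ψ hs ?_
    rw [← sum_mlt (isCharacter_irr ψ) hs, Finset.sum_eq_single l (fun m _ hml => ?_) (by simp)]
    by_contra hne0
    have h1 := hsplit m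
    rw [hnθ, one_mul, ← Finset.add_sum_erase _ _ (Finset.mem_erase.2 ⟨hψ, Finset.mem_univ ψ⟩)] at h1
    have h2 := Nat.le_mul_of_pos_left (mlt p (ψ : H → ℂ) s m) (Nat.pos_of_ne_zero hnψ)
    have hm : m ∈ Sχ := mem_supp.2 (by omega)
    have h3 : mlt p (θ : H → ℂ) s m ≠ 0 := mem_supp.1 (show m ∈ Sθ from heq ▸ hm)
    rw [hsimple m hm hml] at h1
    omega
  have hnt : ¬ Scal (θ : H → ℂ) t := fun hs => hne (hs.commutator _)
  have hnt' : ¬ Scal (θ : H → ℂ) t' := fun hs => hne (Basic.commutator_of_scal hs t)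
  obtain ⟨h9, hlS, hdθ, hnθ, hd2, hct⟩ := key t ht hnt (fun m => rfl)
  obtain ⟨-, -, -, -, -, hct'⟩ := key t' ht' hnt' hsame
  -- another constituent
  obtain ⟨ψ, hψθ, hψ⟩ : ∃ ψ, ψ ≠ θ ∧ n ψ ≠ 0 := by
    by_contra hcon
    push Not at hcon
    rw [Finset.sum_eq_single θ (fun ψ _ hψ => by rw [hcon ψ hψ, zero_mul]) (by simp), hnθ,
      one_mul] at hsum
    omega
  -- the derived group acts trivially on the others
  have hkerψ : ∀ φ, φ ≠ θ → n φ ≠ 0 → ∀ h ∈ commutator H, ∀ g,
      (φ : H → ℂ) (g * h) = (φ : H → ℂ) g := by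
    intro φ hφ hnφ
    haveI := BlocksChars5.Basic.charKer_normal φ
    set N := BlocksChars5.Basic.charKer φ
    have hc : ∀ u : H, (u : H ⧸ N) ∈ Subgroup.center (H ⧸ N) := by
      have hle : Subgroup.closure ({t, t'} : Set H) ≤
          (Subgroup.center (H ⧸ N)).comap (QuotientGroup.mk' N) := by
        rw [Subgroup.closure_le]
        intro a ha
        have hs : Scal (φ : H → ℂ) a := by
          rcases ha with rfl | ha
          · exact ⟨_, hct φ hφ hnφ⟩
          · rw [Set.mem_singleton_iff.1 ha]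
            exact ⟨_, hct' φ hφ hnφ⟩
        refine Subgroup.mem_center_iff.2 fun q => ?_
        obtain ⟨b, rfl⟩ := QuotientGroup.mk_surjective q
        have h1 : ((b * a * b⁻¹ * a⁻¹ : H) : H ⧸ N) = 1 :=
          (QuotientGroup.eq_one_iff _).2 ((BlocksChars5.Basic.mem_charKer φ _).2
            (Basic.commutator_of_scal hs b))
        rw [QuotientGroup.mk_mul, QuotientGroup.mk_mul, QuotientGroup.mk_mul, QuotientGroup.mk_inv,
          QuotientGroup.mk_inv, mul_inv_eq_one, mul_inv_eq_iff_eq_mul] at h1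
        exact h1
      intro u
      exact hle (hgen ▸ Subgroup.mem_top u)
    have hN : commutator H ≤ N := by
      rw [commutator_def, Subgroup.commutator_le]
      intro a _ b _
      rw [← QuotientGroup.eq_one_iff, commutatorElement_def, QuotientGroup.mk_mul,
        QuotientGroup.mk_mul, QuotientGroup.mk_mul, QuotientGroup.mk_inv, QuotientGroup.mk_inv,
        Subgroup.mem_center_iff.1 (hc b) (a : H ⧸ N), mul_inv_cancel_right, mul_inv_cancel]
    exact fun h hh g => BlocksChars5.Basic.apply_mul_of_mem φ g h (hN hh)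
  have hfaith1 : ∀ h : H, (∀ φ, n φ ≠ 0 → (φ : H → ℂ) h = (φ : H → ℂ) 1) → h = 1 := by
    intro h hh
    refine Subtype.ext (C.faith _ ?_)
    rw [← OneMemClass.coe_one H, hexp, hexp]
    refine Finset.sum_congr rfl fun φ _ => ?_
    by_cases hn : n φ = 0
    · rw [hn, Nat.cast_zero, zero_mul, zero_mul]
    · rw [hh φ hn]
  have hHdeg : Cfsg.charDegree ((χ : G → ℂ) ∘ H.subtype) + 1 < p := by
    rw [BlocksChars5.Basic.charDegree_congr (show ((χ : G → ℂ) ∘ H.subtype) 1 = (χ : G → ℂ) 1 by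
      simp)]
    exact hdeg
  -- an element of order `p` in the derived group
  obtain ⟨⟨u, hu⟩, huo⟩ : ∃ u : commutator H, orderOf u = p := by
    refine exists_prime_orderOf_dvd_card' p ?_
    by_contra hnd
    have hcx : ∀ s : H, orderOf s = p → ∀ k ∈ commutator H, k * s = s * k := fun s hs =>
      FeitSmall.Half.centralizes hs hnd (isCharacter_comp H.subtype (isCharacter_irr χ))
        (fun h hh => Subtype.ext (C.faith _ (by simpa using hh))) hHdeg
    have ht1 : t ≠ 1 := fun e => hne (by rw [e]; simp)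
    have ht1' : t' ≠ 1 := fun e => hne (by rw [e]; simp)
    have hk : t * t' * t⁻¹ * t'⁻¹ ∈ commutator H :=
      Subgroup.commutator_mem_commutator (Subgroup.mem_top t) (Subgroup.mem_top t')
    set k := t * t' * t⁻¹ * t'⁻¹ with hkdef
    have hkt' : Commute k t' := hcx t' (orderOf_eq_prime ht' ht1') k hk
    have h1 : (k * t') ^ p = 1 := by
      rw [hkdef, inv_mul_cancel_right, conj_pow, ht', mul_one, mul_inv_cancel]
    rw [hkt'.mul_pow, ht', mul_one] at h1
    rcases (Nat.dvd_prime hp).1 (orderOf_dvd_of_pow_eq_one h1) with h2 | h2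
    · exact hne (by rw [orderOf_eq_one_iff.1 h2])
    · exact hnd (h2 ▸ Subgroup.orderOf_dvd_natCard _ hk)
  rw [Subgroup.orderOf_mk] at huo
  have hup : u ^ p = 1 := by rw [← huo, pow_orderOf_eq_one]
  obtain ⟨Q, hQ⟩ := (PEl.of_pow_eq_one hup).isPGroup_zpowers.exists_le_sylow
  obtain ⟨R, hR⟩ := (PEl.of_pow_eq_one ht).isPGroup_zpowers.exists_le_sylow
  obtain ⟨h, hh⟩ := MulAction.exists_smul_eq H R Q
  set t₁ := h * t * h⁻¹ with ht₁
  have ht₁Q : t₁ ∈ (Q : Subgroup H) := by
    rw [← hh, Sylow.coe_subgroup_smul]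
    exact Subgroup.mem_map_of_mem _ (hR (Subgroup.mem_zpowers t))
  have ht₁p : t₁ ^ p = 1 := by rw [ht₁, conj_pow, ht, mul_one, mul_inv_cancel]
  have hcomm : Commute t₁ u := Subtype.ext (comm_of_pgroup C (Q.2.map H.subtype)
    (Subgroup.mem_map_of_mem _ ht₁Q) (Subgroup.mem_map_of_mem _ (hQ (Subgroup.mem_zpowers u)))).eq
  have hnt₁ : ¬ Scal (θ : H → ℂ) t₁ := by
    intro hs
    obtain ⟨m, hm⟩ := exists_full hs ht₁p
    rw [ht₁, mlt_conj (isClassFunction_irr θ)] at hm
    exact hnt ⟨_, Basic.scal_of_full θ ht hm⟩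
  obtain ⟨-, -, -, -, -, hct₁⟩ := key t₁ ht₁p hnt₁ fun m => by
    rw [ht₁, Subgroup.coe_mul, Subgroup.coe_mul, InvMemClass.coe_inv,
      mlt_conj (isClassFunction_irr χ)]
  obtain ⟨i, hi⟩ := hpair t₁ u ht₁p hup hcomm hnt₁
  set z := u * t₁ ^ i with hz
  have hzp : z ^ p = 1 := by
    rw [hz, (hcomm.symm.pow_right i).mul_pow, hup, one_mul, ← pow_mul, mul_comm, pow_mul, ht₁p,
      one_pow]
  obtain ⟨l₀, hl₀⟩ := exists_full hi hzp
  have hzθ := Basic.scal_of_full θ hzp hl₀
  set l₁ : ZMod p := l * i with hl₁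
  have hzψ : ∀ φ, φ ≠ θ → n φ ≠ 0 → ∀ g, (φ : H → ℂ) (g * z) = chr p l₁ * (φ : H → ℂ) g := by
    intro φ hφ hnφ g
    rw [hz, Basic.scal_mul (r := 1) (fun g => by rw [hkerψ φ hφ hnφ u hu g, one_mul])
      (Basic.scal_pow (hct₁ φ hφ hnφ) i), one_mul, hl₁, Basic.chr_mul_nat]
  have hzG : (z : G) ^ p = 1 := by rw [← SubgroupClass.coe_pow, hzp, OneMemClass.coe_one]
  have hzm : ∀ m, m ≠ l₀ → m ≠ l₁ → mlt p (χ : G → ℂ) (z : G) m = 0 := by
    intro m h0 h1
    rw [mlt_restrict hexp hzp]
    refine Finset.sum_eq_zero fun φ _ => ?_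
    by_cases hφ : φ = θ
    · rw [hφ, Basic.mlt_of_scal θ hzθ, if_neg h0, mul_zero]
    · by_cases hn : n φ = 0
      · rw [hn, zero_mul]
      · rw [Basic.mlt_of_scal φ (hzψ φ hφ hn), if_neg h1, mul_zero]
  have hzc : ∀ g : G, Commute (z : G) (g * z * g⁻¹) := by
    rcases Nat.lt_or_ge p 7 with hp7 | hp7
    swap
    · exact fun g => Basic.commute_conj_of_two hp7 χ C.faith hzG hzm g
    have hp5' : p = 5 := by
      interval_cases p
      · rfl
      · norm_num at hp
    subst hp5'
    by_cases hll : l₀ = l₁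
    · have hfull : mlt 5 (χ : G → ℂ) (z : G) l₀ = Cfsg.charDegree (χ : G → ℂ) := by
        rw [← sum_mlt (isCharacter_irr χ) hzG,
          Finset.sum_eq_single l₀ (fun m _ hm => hzm m hm (hll ▸ hm)) (by simp)]
      intro g
      have h1 := C.faith _ ((show Scal (χ : G → ℂ) (z : G) from
        ⟨_, Basic.scal_of_full χ hzG hfull⟩).commutator (g * z * g⁻¹))
      rw [mul_inv_eq_one, mul_inv_eq_iff_eq_mul] at h1
      exact h1
    -- an element of order two acting as `-1` on `θ`
    haveI : Fact (Nat.Prime 2) := ⟨Nat.prime_two⟩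
    have h2 : 2 ∣ Nat.card (commutator H) := by
      by_contra hodd
      obtain ⟨m, hm, hmsum⟩ := exists_expand (commutator H) (isCharacter_irr θ)
      have hab : ∀ a b : commutator H, Commute (a : H) b := by
        intro a b
        have hlin : ∀ φ, m φ ≠ 0 →
            (φ : commutator H → ℂ) (a * b * a⁻¹ * b⁻¹) = (φ : commutator H → ℂ) 1 := by
          intro φ hφ
          have hd1 : Cfsg.charDegree (φ : commutator H → ℂ) = 1 := by
            have h1 := deg_le hmsum hφ
            have h2 := DegreeBounds.Basic.charDegree_pos φ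
            by_contra h3
            exact hodd ((show Cfsg.charDegree (φ : commutator H → ℂ) = 2 by omega) ▸
              BlocksChars5.Basic.degree_dvd_card φ)
          have hone : (φ : commutator H → ℂ) 1 = 1 := by
            rw [DegreeBounds.Basic.charDegree_irr, hd1, Nat.cast_one]
          let F := Characters.Linear.degOneHom (isCharacter_irr φ) hone
          have h3 : F (a * b * a⁻¹ * b⁻¹) = 1 := by
            rw [map_mul, map_mul, map_mul, map_inv, map_inv, mul_right_comm (F a), mul_inv_cancel,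
              one_mul, mul_inv_cancel]
          rw [hone, ← Characters.Linear.degOneHom_apply (isCharacter_irr φ) hone]
          exact (congrArg Units.val h3).trans Units.val_one
        have h4 : (a : H) * b * (a : H)⁻¹ * (b : H)⁻¹ = 1 := by
          refine hfaith1 _ fun φ hφ => ?_
          by_cases hφθ : φ = θ
          · rw [hφθ, show (a : H) * b * (a : H)⁻¹ * (b : H)⁻¹ =
              ((a * b * a⁻¹ * b⁻¹ : commutator H) : H) by simp, hm, ← OneMemClass.coe_one (commutator H), hm]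
            refine Finset.sum_congr rfl fun ψ' _ => ?_
            by_cases hn : m ψ' = 0
            · rw [hn, Nat.cast_zero, zero_mul, zero_mul]
            · rw [hlin ψ' hn]
          · rw [← one_mul ((a : H) * b * (a : H)⁻¹ * (b : H)⁻¹)]
            exact hkerψ φ hφθ hφ _
              (mul_mem (mul_mem (mul_mem a.2 b.2) (inv_mem a.2)) (inv_mem b.2)) 1
        rw [mul_inv_eq_one, mul_inv_eq_iff_eq_mul] at h4
        exact h4
      set A := Subgroup.normalClosure ({u} : Set H) with hA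
      haveI : A.Normal := Subgroup.normalClosure_normal
      have hAle : A ≤ commutator H := Subgroup.normalClosure_le_normal (Set.singleton_subset_iff.2 hu)
      have hAc : ∀ a ∈ A, ∀ b ∈ A, Commute a b := fun a ha b hb => hab ⟨a, hAle ha⟩ ⟨b, hAle hb⟩
      have hpel : ∀ a ∈ A, a ^ 5 = 1 := by
        intro a ha
        refine Subgroup.closure_induction (p := fun v hv => v ∈ A ∧ v ^ 5 = 1) ?_ ⟨one_mem _, one_pow 5⟩
          ?_ ?_ (show a ∈ Subgroup.closure (Group.conjugatesOfSet ({u} : Set H)) from ha) |>.2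
        · intro v hv
          refine ⟨Subgroup.subset_closure hv, ?_⟩
          obtain ⟨b, hb, hbv⟩ := Group.mem_conjugatesOfSet_iff.1 hv
          rw [Set.mem_singleton_iff] at hb
          subst hb
          obtain ⟨g, rfl⟩ := isConj_iff.1 hbv
          rw [conj_pow, hup, mul_one, mul_inv_cancel]
        · intro v w _ _ h1 h2
          exact ⟨mul_mem h1.1 h2.1, by rw [(hAc v h1.1 w h2.1).mul_pow, h1.2, h2.2, one_mul]⟩
        · intro v _ h1
          exact ⟨inv_mem h1.1, by rw [inv_pow, h1.2, inv_one]⟩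
      have hAp : IsPGroup 5 A := fun a => ⟨1, Subtype.ext (by simpa using hpel a a.2)⟩
      have hcu : ∀ s : H, s ^ 5 = 1 → Commute u s := by
        intro s hs
        obtain ⟨S, hS⟩ := (PEl.of_pow_eq_one hs).isPGroup_zpowers.exists_le_sylow
        have hAS : A ≤ (S : Subgroup H) := by
          have := S.is_maximal' (hAp.to_sup_of_normal_left S.2) le_sup_right
          exact this ▸ le_sup_left
        exact Subtype.ext (comm_of_pgroup C (S.2.map H.subtype)
          (Subgroup.mem_map_of_mem _ (hAS (Subgroup.subset_normalClosure rfl)))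
          (Subgroup.mem_map_of_mem _ (hS (Subgroup.mem_zpowers s)))).eq
      have hucen : u ∈ Subgroup.center H := by
        refine Subgroup.mem_center_iff.2 fun g => ?_
        have hle : Subgroup.closure ({t, t'} : Set H) ≤ Subgroup.centralizer ({u} : Set H) := by
          rw [Subgroup.closure_le]
          rintro a (rfl | ha)
          · exact Subgroup.mem_centralizer_singleton_iff.2 (hcu a ht).symm.eq
          · rw [Set.mem_singleton_iff.1 ha]
            exact Subgroup.mem_centralizer_singleton_iff.2 (hcu t' ht').symm.eq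
        exact Subgroup.mem_centralizer_singleton_iff.1 (hle (hgen ▸ Subgroup.mem_top g))
      obtain ⟨a, ha⟩ := exists_full (scal_center θ hucen) hup
      have hua := Basic.scal_of_full θ hup ha
      have h5 := Basic.sum_eq_zero θ hup hu
      rw [Finset.sum_eq_single a (fun b _ hb => by
        rw [Basic.mlt_of_scal θ hua, if_neg hb, Nat.cast_zero, zero_mul]) (by simp), ha] at h5
      have ha0 : a = 0 := (mul_eq_zero.1 h5).resolve_left (by
        rw [ZMod.natCast_eq_zero_iff]
        intro hdvd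
        have := Nat.le_of_dvd (DegreeBounds.Basic.charDegree_pos θ) hdvd
        omega)
      have hu1 : u = 1 := hfaith1 u fun φ hφ => by
        rw [← one_mul u]
        by_cases hφθ : φ = θ
        · rw [hφθ, hua, ha0, chr_zero, one_mul]
        · exact hkerψ φ hφθ hφ u hu 1
      rw [hu1, orderOf_one] at huo
      omega
    obtain ⟨⟨e, he⟩, heo⟩ := exists_prime_orderOf_dvd_card' 2 h2
    rw [Subgroup.orderOf_mk] at heo
    have hep : e ^ 2 = 1 := by rw [← heo, pow_orderOf_eq_one]
    have hneg : ∀ g, (θ : H → ℂ) (g * e) = -1 * (θ : H → ℂ) g := by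
      have hs1 := sum_mlt (p := 2) (isCharacter_irr θ) hep
      have hs2 := Basic.sum_eq_zero (p := 2) θ hep he
      rw [show ∀ f : ZMod 2 → ℕ, ∑ i, f i = f 0 + f 1 from fun f => Fin.sum_univ_two f] at hs1
      rw [show ∀ f : ZMod 2 → ZMod 2, ∑ i, f i = f 0 + f 1 from fun f => Fin.sum_univ_two f] at hs2
      rw [mul_zero, zero_add, mul_one, ZMod.natCast_eq_zero_iff] at hs2
      have hm1 : mlt 2 (θ : H → ℂ) e 1 ≠ 0 := by
        intro h0
        have hfull : mlt 2 (θ : H → ℂ) e 0 = Cfsg.charDegree (θ : H → ℂ) := by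
          rw [← hs1, h0, add_zero]
        have he1 : e = 1 := hfaith1 e fun φ hφ => by
          rw [← one_mul e]
          by_cases hφθ : φ = θ
          · rw [hφθ, Basic.scal_of_full θ hep hfull, chr_zero, one_mul]
          · exact hkerψ φ hφθ hφ e he 1
        rw [he1, orderOf_one] at heo
        omega
      obtain ⟨c, hc⟩ := hs2
      have hfull : mlt 2 (θ : H → ℂ) e 1 = Cfsg.charDegree (θ : H → ℂ) := by omega
      have hchr : chr 2 (1 : ZMod 2) = -1 := by
        rw [← Nat.cast_one, chr_natCast, pow_one]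
        exact (Periods.root_spec (p := 2)).eq_neg_one_of_two_right
      intro g
      rw [Basic.scal_of_full θ hep hfull, hchr]
    have hzeG : Commute (z : G) (e : G) := by
      by_contra hnc
      obtain ⟨φ, hφ, hne'⟩ := exists_separating C.faith H hexp hnc
      refine hne' ?_
      by_cases hφθ : φ = θ
      · rw [hφθ]
        exact hi.commutator e
      · exact (show Scal (φ : H → ℂ) z from ⟨_, hzψ φ hφθ hφ⟩).commutator e
    have hze : Commute z e := Subtype.ext hzeG.eq
    set w := z * e with hw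
    obtain ⟨k, hk2, hk⟩ : ∃ k : ℕ, Odd k ∧ (k : ZMod 5) * (l₀ - l₁) = 3 := by
      obtain ⟨r, hr⟩ : ∃ r : ZMod 5, r * (l₀ - l₁) = 3 :=
        ⟨3 * (l₀ - l₁)⁻¹, by rw [mul_assoc, inv_mul_cancel₀ (sub_ne_zero.2 hll), mul_one]⟩
      by_cases ho : Odd r.val
      · exact ⟨r.val, ho, by rw [ZMod.natCast_zmod_val, hr]⟩
      · refine ⟨r.val + 5, (Nat.not_odd_iff_even.1 ho).add_odd (by decide), ?_⟩
        rw [Nat.cast_add, ZMod.natCast_zmod_val, ZMod.natCast_self, add_zero, hr]
    obtain ⟨a, b, hval⟩ := split_values (F := fun h : H => (χ : G → ℂ) h) (n := n) hexp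
      (θ₀ := θ) (w := w) (A := chr 5 l₀ * -1) (B := chr 5 l₁ * 1)
      (fun g => Basic.scal_mul hzθ hneg g)
      (fun φ hφ hnφ g => Basic.scal_mul (hzψ φ hφ hnφ)
        (fun g => by rw [hkerψ φ hφ hnφ e he g, one_mul]) g)
    set B := chr 5 (l₁ * k) with hB
    set s : ℝ := Real.pi / 10 with hs
    have hs0 : 0 ≤ s := by positivity
    have hs2 : s < 1 / 2 := by
      rw [hs, div_lt_iff₀ (by norm_num)]
      have := Real.pi_lt_d2
      linarith
    have hA : (chr 5 l₀ * -1) ^ k = B * Complex.exp (Complex.I * (2 * s : ℝ)) := by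
      rw [mul_pow, hk2.neg_one_pow, ← Basic.chr_mul_nat,
        show l₀ * (k : ZMod 5) = l₁ * k + ((3 : ℕ) : ZMod 5) by push_cast; linear_combination hk,
        chr_add, ← hB, mul_assoc, chr_natCast, Periods.root, ← Complex.exp_nat_mul]
      congr 1
      rw [← Complex.exp_pi_mul_I, ← Complex.exp_add, Complex.exp_eq_exp_iff_exists_int]
      refine ⟨1, ?_⟩
      rw [hs]
      push_cast
      ring
    haveI := Fintype.ofFinite G
    obtain ⟨d, ρ, -, hρχ⟩ := exists_rep χ
    have hinj : ∀ g : G, ρ g = 1 → g = 1 := fun g hg => C.faith g (by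
      rw [← hρχ, Representation.character, Representation.character, hg, map_one ρ])
    have hw10 : ((w : G) ^ k) ^ 10 = 1 := by
      have h1 : w ^ 10 = 1 := by
        rw [hw, hze.mul_pow, show (10 : ℕ) = 5 * 2 from rfl, pow_mul, hzp, one_pow, one_mul,
          show (5 * 2 : ℕ) = 2 * 5 from rfl, pow_mul, hep, one_pow]
      rw [← pow_mul, mul_comm, pow_mul, ← SubgroupClass.coe_pow, h1, OneMemClass.coe_one, one_pow]
    have hB10 : B ^ 10 = 1 := by
      rw [hB, show (10 : ℕ) = 5 * 2 from rfl, pow_mul, Basic.chr_pow_self, one_pow]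
    have hsharp : Sharp ρ ((w : G) ^ k) := by
      refine Basic.sharp_of_values ρ (show (10 : ℕ) ≠ 0 by norm_num) hw10
        (A := (chr 5 l₀ * -1) ^ k) (B := B) ?_ hB10 (m := a) (n := b) (fun j => ?_)
        (a := B * Complex.exp (Complex.I * s)) hs0 hs2 ?_ ?_
      · rw [← pow_mul, mul_comm k, pow_mul, mul_pow, show (10 : ℕ) = 5 * 2 from rfl,
          pow_mul (chr 5 l₀), Basic.chr_pow_self, one_pow, one_mul,
          Even.neg_one_pow ⟨5, rfl⟩, one_pow]
      · rw [hρχ, ← pow_mul, ← SubgroupClass.coe_pow, hval, mul_one, ← pow_mul, hB]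
        simp only [hl₁, ← Basic.chr_mul_nat, Nat.cast_mul, mul_assoc]
      · rw [hA, ← mul_sub, norm_mul, Complex.norm_eq_one_of_pow_eq_one hB10 (by norm_num), one_mul]
        exact (Basic.norm_half hs0).2
      · rw [← mul_one_sub, norm_mul, Complex.norm_eq_one_of_pow_eq_one hB10 (by norm_num), one_mul,
          norm_sub_rev]
        exact (Basic.norm_half hs0).1
    intro g
    set j : ℕ := ((2 * k : ℕ) : ZMod 5)⁻¹.val with hj
    have h1 := ((Basic.commute_conj_of_sharp ρ hinj hsharp g).pow_pow (2 * j) (2 * j))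
    have h2k : ((2 * k : ℕ) : ZMod 5) ≠ 0 := by
      rw [Nat.cast_mul]
      refine mul_ne_zero two_ne_five fun h0 => ?_
      rw [h0, zero_mul] at hk
      exact three_ne_five hk.symm
    have h3 : ((w : G) ^ k) ^ (2 * j) = (z : G) := by
      rw [← SubgroupClass.coe_pow, ← SubgroupClass.coe_pow]
      refine congrArg Subtype.val ?_
      rw [← pow_mul, show k * (2 * j) = 2 * (k * j) by ring, hw, hze.mul_pow, pow_mul e, hep,
        one_pow, mul_one, show 2 * (k * j) = 2 * k * j by ring, ← pow_val_natCast hzp, Nat.cast_mul,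
        hj, ZMod.natCast_zmod_val, mul_inv_cancel₀ h2k, pow_val_one hzp]
    rwa [conj_pow, h3] at h1
  have hz1 : z = 1 := by
    have hzcen := central_of_commute_conj C hsq hzG hzc
    by_contra hz1
    have ho := orderOf_eq_prime hzp hz1
    rw [← Subgroup.orderOf_coe] at ho
    exact C.cen (ho ▸ Subgroup.orderOf_dvd_natCard _ hzcen)
  -- so `t` lies in the derived group
  have hi0 : (i : ZMod p) ≠ 0 := by
    intro h0
    rw [hz, ← pow_val_natCast ht₁p, h0, ZMod.val_zero, pow_zero, mul_one] at hz1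
    rw [hz1, orderOf_one] at huo
    exact hp.one_lt.ne huo
  have ht₁c : t₁ ∈ commutator H := by
    have h1 : t₁ ^ i ∈ commutator H := by
      rw [eq_inv_of_mul_eq_one_right (show u * t₁ ^ i = 1 from hz1)]
      exact inv_mem hu
    have h2 : (t₁ ^ i) ^ ((i : ZMod p)⁻¹).val = t₁ := by
      rw [← pow_val_natCast ht₁p, ← pow_val_mul ht₁p, mul_inv_cancel₀ hi0, pow_val_one ht₁p]
    exact h2 ▸ pow_mem h1 _
  have htc : t ∈ commutator H := by
    have h1 := (inferInstance : (commutator H).Normal).conj_mem _ ht₁c h⁻¹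
    rwa [ht₁, show h⁻¹ * (h * t * h⁻¹) * h⁻¹⁻¹ = t by group] at h1
  have hl0 : l = 0 := by
    have h1 := hct ψ hψθ hψ 1
    rw [hkerψ ψ hψθ hψ t htc] at h1
    exact Basic.chr_inj ((mul_eq_right₀ (apply_one_ne_zero ψ)).1 h1.symm |>.trans chr_zero.symm)
  exact (hbord t ht hnt h9).2 htc (hl0 ▸ hlS)

end Cfsg.Agent.Lib.Small80.Border
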