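import Cfsg.Agent.Lib.Small80.Reduce
import Cfsg.Agent.Lib.Brauer.TIBound
import Cfsg.Agent.Lib.FeitSmall.Half

/-!
# Normal subgroups and conjugates in the minimal counterexample to `p² ∤ |G|`
-/

set_option autoImplicit false
set_option linter.unusedSectionVars false
set_option linter.style.haveILetI false

namespace Cfsg.Agent.Lib.Small80.Center

open Cfsg.Agent.Lib Cfsg.Agent.Lib.FirstPower Average Periods Cfsg.Agent.Lib.Characters.Basic
open Sixteen80.Mult Small80.Reduce
open Cfsg.Agent.Lib.Sixteen80.Reduce (Noncomm exists_expand exists_separating deg_le)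
open scoped Pointwise

attribute [local instance] BlocksChars5.Basic.irrFintype

universe u

variable {p : ℕ} [Fact p.Prime] {G : Type u} [Group G] [Finite G] {χ : Cfsg.IrrCharacter G}

/-- p-elements of a common p-subgroup commute. -/
theorem comm_of_pgroup (C : Ctx p χ) {Q : Subgroup G} (hQ : IsPGroup p Q) {a b : G} (ha : a ∈ Q)
    (hb : b ∈ Q) : Commute a b := by
  classical
  have hp : p.Prime := Fact.out
  by_contra hab
  obtain ⟨n, hexp, hsum⟩ := exists_expand Q (isCharacter_irr χ)
  obtain ⟨θ, hθ, hne⟩ := exists_separating C.faith Q hexp (a := ⟨a, ha⟩) (b := ⟨b, hb⟩) hab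
  have hle := deg_le hsum hθ
  obtain ⟨k, hk⟩ := hQ.exists_card_eq
  obtain ⟨i, -, hi⟩ := (Nat.dvd_prime_pow hp).1 (hk ▸ BlocksChars5.Basic.degree_dvd_card θ)
  have h1 : Cfsg.charDegree (θ : Q → ℂ) = 1 := by
    rcases Nat.eq_zero_or_pos i with h0 | h0
    · rw [hi, h0, pow_zero]
    · exfalso
      have h2 : p ≤ p ^ i := Nat.le_self_pow h0.ne' p
      have := C.deg
      omega
  have hone : (θ : Q → ℂ) 1 = 1 := by
    rw [DegreeBounds.Basic.charDegree_irr, h1, Nat.cast_one]
  apply hne
  simp only [Characters.Linear.apply_mul_of_degree_one (isCharacter_irr θ) hone]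
  rw [mul_right_comm ((θ : Q → ℂ) ⟨a, ha⟩), ← Characters.Linear.apply_mul_of_degree_one
    (isCharacter_irr θ) hone, mul_inv_cancel, hone, one_mul,
    ← Characters.Linear.apply_mul_of_degree_one (isCharacter_irr θ) hone, mul_inv_cancel]
  exact hone

/-- A normal subgroup with all p-elements is everything. -/
theorem no_proper (C : Ctx p χ) (hsq : p ^ 2 ∣ Nat.card G) (M : Subgroup G) [M.Normal]
    (hM : ∀ a : G, PEl p a → a ∈ M) : M = ⊤ := by
  classical
  by_contra hMtop
  obtain ⟨a, b, ha, hb, hab⟩ := C.nc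
  set a' : M := ⟨a, hM a ha⟩
  set b' : M := ⟨b, hM b hb⟩
  have ha' : PEl p a' := by
    obtain ⟨k, hk⟩ := ha
    exact ⟨k, Subtype.ext (by simpa using hk)⟩
  have hb' : PEl p b' := by
    obtain ⟨k, hk⟩ := hb
    exact ⟨k, Subtype.ext (by simpa using hk)⟩
  have hab' : ¬ Commute a' b' := fun hc => hab (congrArg Subtype.val hc.eq)
  haveI := Fintype.ofFinite G
  haveI := Fintype.ofFinite M
  obtain ⟨d, ρ, hρ, hρχ⟩ := exists_rep χ
  haveI := hρ
  let ρM : Representation ℂ M (Fin d → ℂ) := ρ.comp M.subtype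
  have hρMc : ρM.character = fun m : M => (χ : G → ℂ) m := by
    funext m
    rw [← hρχ]
    rfl
  have hirr_case : ρM.IsIrreducible → False := by
    intro hirr
    haveI := hirr
    let φ : Cfsg.IrrCharacter M := ⟨fun m : M => (χ : G → ℂ) m, d, ρM, hirr, hρMc⟩
    have hcM : Subgroup.center M ≤ (Subgroup.center G).subgroupOf M := by
      intro z hz
      obtain ⟨r, hr⟩ := Clifford.Rep.schur ρM (ρM z) (fun m => by
        rw [← map_mul, ← map_mul, Subgroup.mem_center_iff.1 hz m])
      rw [Subgroup.mem_subgroupOf, Subgroup.mem_center_iff]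
      intro g
      have hr' : ρ (z : G) = r • 1 := hr
      have h1 : ρ (g * z * (z * g)⁻¹) = ρ 1 := by
        have h0 : ρ (g * z) = ρ ((z : G) * g) := by
          rw [map_mul, map_mul, hr', mul_smul_comm, smul_mul_assoc, one_mul, mul_one]
        rw [map_mul, h0, ← map_mul, mul_inv_cancel]
      have h2 := C.faith (g * z * (z * g)⁻¹) (by
        rw [← hρχ, Representation.character, Representation.character, h1])
      exact mul_inv_eq_one.1 h2
    have hcle : (Subgroup.center G).subgroupOf M ≤ Subgroup.center M := by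
      intro z hz
      rw [Subgroup.mem_center_iff]
      intro m
      exact Subtype.ext (Subgroup.mem_center_iff.1 (Subgroup.mem_subgroupOf.1 hz) m)
    have hceq := le_antisymm hcM hcle
    have hcen : ¬ p ∣ Nat.card (Subgroup.center M) := by
      intro hd
      haveI : Fact p.Prime := inferInstance
      obtain ⟨⟨z, hz⟩, hzo⟩ := exists_prime_orderOf_dvd_card' p hd
      rw [Subgroup.orderOf_mk, ← Subgroup.orderOf_coe] at hzo
      exact C.cen (hzo ▸ Subgroup.orderOf_dvd_natCard _ (Subgroup.mem_subgroupOf.1 (hceq ▸ hz)))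
    have hidx : (Subgroup.center M).index ≤ (Subgroup.center G).index := by
      rw [hceq]
      exact Nat.le_of_dvd (Nat.pos_of_ne_zero Subgroup.index_ne_zero_of_finite)
        (Subgroup.relIndex_dvd_index_of_normal _ M)
    have hcard : Nat.card M < Nat.card G := by
      refine lt_of_le_of_ne (Nat.le_of_dvd Nat.card_pos (Subgroup.card_subgroup_dvd_card M)) ?_
      exact fun e => hMtop (Subgroup.eq_top_of_card_eq M e)
    refine C.ih M φ (fun m hm => Subtype.ext (C.faith _ hm))
      (by
        rw [BlocksChars5.Basic.charDegree_congr (show (φ : M → ℂ) 1 = (χ : G → ℂ) 1 from rfl)]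
        exact C.deg) hcen ⟨a', b', ha', hb', hab'⟩
      (Or.inr ⟨hidx, hcard⟩) ?_
    obtain ⟨P, -⟩ := (IsPGroup.of_bot (p := p) (G := G)).exists_le_sylow
    have h1 := Subgroup.card_dvd_of_le
      (show (P : Subgroup G) ≤ M from fun u hu => hM u (PEl.of_mem P.2 hu))
    exact (P.pow_dvd_card_of_pow_dvd_card hsq).trans h1
  by_cases hirr : ρM.IsIrreducible
  · exact hirr_case hirr
  have hMZ : M ⊔ Subgroup.center G ≠ ⊤ := by
    intro htop
    refine hirr ?_
    haveI : Nontrivial (Subrepresentation ρM) := by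
      haveI := Clifford.Rep.nontrivial_of_irreducible ρ
      refine ⟨⟨⊥, ⊤, fun e => ?_⟩⟩
      exact bot_ne_top (α := Submodule ℂ (Fin d → ℂ)) (congrArg Subrepresentation.toSubmodule e)
    refine ⟨fun q => ?_⟩
    have := eq_bot_or_top ρ (T := (M : Set G) ∪ (Subgroup.center G : Set G)) (by
      rw [Subgroup.closure_union, Subgroup.closure_eq, Subgroup.closure_eq, htop]) q.toSubmodule
      (fun t ht w hw => by
        rcases ht with ht | ht
        · exact q.apply_mem_toSubmodule (⟨t, ht⟩ : M) hw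
        · rw [FeitSmall.Budget.rho_center ρ hρχ ht, LinearMap.smul_apply, Module.End.one_apply]
          exact q.toSubmodule.smul_mem _ hw)
    rcases this with h | h
    · exact Or.inl (Subrepresentation.toSubmodule_injective h)
    · exact Or.inr (Subrepresentation.toSubmodule_injective h)
  obtain ⟨n, hexp, hsum⟩ := exists_expand M (isCharacter_irr χ)
  obtain ⟨θ, hθ, hne⟩ := exists_separating C.faith M hexp (a := a') (b := b') hab
  have hθin : Cfsg.classInner (fun m : M => (χ : G → ℂ) m) (θ : M → ℂ) ≠ 0 := by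
    have h1 : Cfsg.classInner (fun m : M => (χ : G → ℂ) m) (θ : M → ℂ) = n θ := by
      rw [show (fun m : M => (χ : G → ℂ) m) =
        ∑ θ : Cfsg.IrrCharacter M, (n θ : ℂ) • (θ : M → ℂ) from funext fun m => by
          rw [hexp m]; simp [Finset.sum_apply]]
      exact Characters.Complete.classInner_irr_sum _ θ
    rw [h1]
    exact Nat.cast_ne_zero.2 hθ
  obtain ⟨e, he⟩ := exists_classInner_nat
    (isCharacter_comp M.subtype (isCharacter_irr χ)) (isCharacter_irr θ)
  have he' : Cfsg.classInner (fun m : M => (χ : G → ℂ) m) (θ : M → ℂ) = e := he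
  set t := (Clifford.Basic.inertia M (θ : M → ℂ)).index with ht
  have hdeg : Cfsg.charDegree (χ : G → ℂ) = e * t * Cfsg.charDegree (θ : M → ℂ) := by
    have h' := Clifford.Basic.clifford_degree M χ.2 θ hθin
    rw [he', DegreeBounds.Basic.charDegree_irr θ, ← ht, DegreeBounds.Basic.charDegree_irr χ] at h'
    exact_mod_cast h'
  have het : 2 ≤ e * t := by
    rcases Nat.lt_or_ge (e * t) 2 with hlt | hge
    swap
    · exact hge
    exfalso
    have hdpos := BlocksChars5.Basic.degree_pos χ
    have het1 : e * t = 1 := by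
      rcases Nat.eq_zero_or_pos (e * t) with h0 | h0
      · rw [h0, zero_mul] at hdeg
        omega
      · omega
    obtain ⟨he1, ht1⟩ := mul_eq_one.1 het1
    have hinv : ∀ g, Clifford.Basic.conjC M g (θ : M → ℂ) = (θ : M → ℂ) := fun g =>
      (Clifford.Basic.mem_inertia M).1 (Subgroup.index_eq_one.1 ht1 ▸ Subgroup.mem_top g)
    have h' := Clifford.Basic.restrict_eq_smul M χ.2 θ hθin hinv
    rw [he', he1, Nat.cast_one, one_smul] at h'
    refine hirr ((isIrreducible_iff_classInner_self ρM).2 ?_)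
    rw [hρMc, h']
    exact classInner_self_irr θ
  have hle := C.deg
  have hd8 : 2 * Cfsg.charDegree (θ : M → ℂ) ≤ Cfsg.charDegree (χ : G → ℂ) :=
    hdeg.symm ▸ Nat.mul_le_mul_right _ het
  obtain ⟨h1, -, -, -⟩ := link C hMZ θ (by omega) ha' hb' hne
  have := C.big
  omega

/-- An element of order `p` commuting with its conjugates is central. -/
theorem central_of_commute_conj (C : Ctx p χ) (hsq : p ^ 2 ∣ Nat.card G) {t : G} (htp : t ^ p = 1)
    (hall : ∀ g : G, Commute t (g * t * g⁻¹)) : t ∈ Subgroup.center G := by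
  classical
  have hconj : ∀ a ∈ Group.conjugatesOfSet ({t} : Set G), ∃ g, a = g * t * g⁻¹ := by
    intro a ha
    obtain ⟨b, hb, hab⟩ := Group.mem_conjugatesOfSet_iff.1 ha
    rw [Set.mem_singleton_iff] at hb
    subst hb
    obtain ⟨g, hg⟩ := isConj_iff.1 hab
    exact ⟨g, hg.symm⟩
  set A := Subgroup.normalClosure ({t} : Set G) with hA
  have hcomm : ∀ a ∈ A, ∀ b ∈ A, Commute a b := by
    intro a ha b hb
    refine Subgroup.closure_induction₂ (p := fun u v _ _ => Commute u v) ?_ ?_ ?_ ?_ ?_ ?_ ?_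
      ha hb
    · intro u v hu hv
      obtain ⟨g, rfl⟩ := hconj u hu
      obtain ⟨k, rfl⟩ := hconj v hv
      have h1 := (hall (g⁻¹ * k)).map (MulAut.conj g).toMonoidHom
      simp only [MulEquiv.coe_toMonoidHom, MulAut.conj_apply] at h1
      rwa [show g * (g⁻¹ * k * t * (g⁻¹ * k)⁻¹) * g⁻¹ = k * t * k⁻¹ by group] at h1
    · exact fun _ _ => Commute.one_left _
    · exact fun _ _ => Commute.one_right _
    · exact fun _ _ _ _ _ _ h1 h2 => h1.mul_left h2
    · exact fun _ _ _ _ _ _ h1 h2 => h1.mul_right h2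
    · exact fun _ _ _ _ h1 => h1.inv_left
    · exact fun _ _ _ _ h1 => h1.inv_right
  have hpel : ∀ a ∈ A, a ^ p = 1 := by
    intro a ha
    refine Subgroup.closure_induction (p := fun u _ => u ^ p = 1) ?_ (one_pow p) ?_ ?_ ha
    · intro u hu
      obtain ⟨g, rfl⟩ := hconj u hu
      rw [conj_pow, htp, mul_one, mul_inv_cancel]
    · intro u v hu hv h1 h2
      rw [(hcomm u hu v hv).mul_pow, h1, h2, one_mul]
    · intro u _ h1
      rw [inv_pow, h1, inv_one]
  have hAp : IsPGroup p A := fun a => ⟨1, Subtype.ext (by simpa using hpel a a.2)⟩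
  haveI : A.Normal := Subgroup.normalClosure_normal
  have htA : t ∈ A := Subgroup.subset_normalClosure rfl
  have hcen : Subgroup.centralizer (A : Set G) = ⊤ := no_proper C hsq _ fun a ha => by
    rw [Subgroup.mem_centralizer_iff]
    intro u hu
    obtain ⟨Q, hQ⟩ := ha.isPGroup_zpowers.exists_le_sylow
    have hAQ : A ≤ (Q : Subgroup G) := by
      have := Q.is_maximal' (hAp.to_sup_of_normal_left Q.2) le_sup_right
      exact this ▸ le_sup_left
    exact (comm_of_pgroup C Q.2 (hAQ hu) (hQ (Subgroup.mem_zpowers a))).eq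
  refine Subgroup.mem_center_iff.2 fun b => ?_
  exact (Subgroup.mem_centralizer_iff.1 (hcen ▸ Subgroup.mem_top b) t htA).symm

end Cfsg.Agent.Lib.Small80.Center
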