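import Cfsg.Agent.Lib.Small80.Setup
import Cfsg.Agent.Lib.CyclicBlocks.Galois
import Cfsg.Agent.Lib.FirstPower.Combin

/-!
(For the primes at least five: a copy of `FeitSmall` with the weaker bound on `p`.)
# The exceptional family of a character of small degree

Over each central character the coordinates are those of a family of `t` characters, each
with one coordinate shifted by a sign, and of characters with constant coordinates.  The
character `ζ` belongs to the family over its own central character; the block of `ζ` shows that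
the common coordinate vanishes, so `ζ` has degree `p - e` once `3 ≤ t`.
-/

set_option autoImplicit false
set_option linter.unusedSectionVars false
set_option linter.style.haveILetI false

namespace Cfsg.Agent.Lib.Small80.Spikes

open Cfsg.Agent.Lib Cfsg.Agent.Lib.FirstPower Average Periods Cfsg.Agent.Lib.Characters.Basic
open Family (pow_eq_one_of_order)
open Cfsg.Agent.Lib.DegSubTwo.Basic (lam lam_one lam_mul apply_mul_central exists_exp_pair pw
  pw_apply)
open Setup

attribute [local instance] BlocksChars5.Basic.irrFintype Ideal.Quotient.field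

universe u

variable {p : ℕ} [Fact p.Prime] {G : Type u} [Group G] [Finite G] {x : G}
  {ζ : Cfsg.IrrCharacter G}

theorem coprime_quot (h : Hyp p x ζ) :
    p * (Nat.card G / p) = Nat.card G ∧ ¬ p ∣ Nat.card G / p :=
  Family.not_dvd_div h.ord h.sq

/-- A power congruent to one modulo `|G| / p` fixes the centre. -/
theorem pow_center (h : Hyp p x ζ) {k : ℕ} (hk : k ≡ 1 [MOD Nat.card G / p]) {z : G}
    (hz : z ∈ Subgroup.center G) : z ^ k = z :=
  Family.pow_eq_self_of_regular h.ord h.sq hk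
    fun hd => not_dvd_center h (hd.trans (Subgroup.orderOf_dvd_natCard _ hz))

/-- The coordinates of a conjugate. -/
theorem crd_conj (h : Hyp p x ζ) {χ ψ : Cfsg.IrrCharacter G} {k : ℕ} {u : (ZMod p)ˣ}
    (hψ : ∀ g, (ψ : G → ℂ) g = (χ : G → ℂ) (g ^ k)) (hku : (k : ZMod p) = (u : ZMod p))
    (q : Cls h) : crd h ψ q = crd h χ (q * (QuotientGroup.mk u)⁻¹) := by
  refine congrFun (coord_unique h (g := fun q => crd h χ (q * (QuotientGroup.mk u)⁻¹))
    fun w => ?_) q
  rw [← crd_val, hψ, ← pow_mul,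
    ← pow_val_natCast (pow_eq_one_of_order h.ord) ((w : ZMod p).val * k), Nat.cast_mul,
    ZMod.natCast_zmod_val, hku, ← Units.val_mul, crd_val]
  refine Fintype.sum_equiv (Equiv.mulRight (QuotientGroup.mk u : Cls h)) _ _ fun r => ?_
  simp only [Equiv.coe_mulRight, mul_inv_cancel_right]
  congr 2
  rw [QuotientGroup.mk_mul, mul_comm (QuotientGroup.mk w : Cls h), mul_assoc]

/-- The central character of a conjugate. -/
theorem lam_conj {χ ψ : Cfsg.IrrCharacter G} {k : ℕ}
    (hψ : ∀ g, (ψ : G → ℂ) g = (χ : G → ℂ) (g ^ k)) {z : G} (hzk : z ^ k = z) :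
    lam ψ z = lam χ z := by
  rw [lam, lam, hψ, hψ, hzk, one_pow]

/-- The translations of a slice. -/
theorem exists_shift (h : Hyp p x ζ) (χ₀ : Cfsg.IrrCharacter G) (κ : Cls h) :
    ∃ σ : Equiv.Perm (slice h (lam χ₀)), ∀ χ q, crd h (σ χ : Cfsg.IrrCharacter G) q =
      crd h (χ : Cfsg.IrrCharacter G) (q * κ) := by
  obtain ⟨u, hu⟩ := QuotientGroup.mk_surjective κ⁻¹
  obtain ⟨k, hk, hku, hk1⟩ := Family.exists_exponent h.ord h.sq u
  let f : slice h (lam χ₀) → slice h (lam χ₀) := fun χ => ⟨pw χ.1 hk, (mem_slice h).2 fun z hz => by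
    rw [lam_conj (fun g => pw_apply χ.1 hk g) (pow_center h hk1 hz)]
    exact (mem_slice h).1 χ.2 z hz⟩
  have hf : Function.Injective f := by
    intro χ ψ he
    refine Subtype.ext (Subtype.ext (funext fun g => ?_))
    obtain ⟨g₀, hg₀⟩ := (powCoprime (G := G) hk.symm).surjective g
    rw [← hg₀]
    have h' := congrArg (fun F : slice h (lam χ₀) => ((F : Cfsg.IrrCharacter G) : G → ℂ) g₀) he
    exact h'
  refine ⟨Equiv.ofBijective f (Finite.injective_iff_bijective.mp hf), fun χ q => ?_⟩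
  rw [Equiv.ofBijective_apply, crd_conj h (fun g => pw_apply χ.1 hk g) hku, hu, inv_inv]

/-- The degree in terms of the coordinates. -/
theorem exists_degree (h : Hyp p x ζ) (χ : Cfsg.IrrCharacter G) :
    ∃ c₀ : ℕ, (∀ q, 0 ≤ crd h χ q + c₀) ∧
      ((Cfsg.charDegree (χ : G → ℂ) : ℤ) =
        (c₀ : ℤ) + ∑ q, (Fintype.card (ex h) : ℤ) * (crd h χ q + c₀)) ∧
      ∑ a : ZMod p, (χ : G → ℂ) (x ^ a.val) = (p : ℂ) * c₀ := by
  obtain ⟨c₀, h1, h2, h3, -⟩ := (exists_coord h (isCharacter_irr χ)).choose_spec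
  refine ⟨c₀, h1, ?_, h3⟩
  have h4 := (apply_one_zeta χ).symm.trans h2
  exact_mod_cast h4

theorem card_mul (h : Hyp p x ζ) : Fintype.card (Cls h) * Fintype.card (ex h) = p - 1 :=
  card_mul_card (ex h)

theorem not_const (h : Hyp p x ζ) (hc : ∀ q q', crd h ζ q = crd h ζ q') : False := by
  obtain ⟨c₀, hpos, hdeg, -⟩ := exists_degree h ζ
  set C := crd h ζ 1 with hC
  have hm := hpos 1
  rw [← hC] at hm
  rw [Finset.sum_congr rfl fun q _ => by rw [hc q 1, ← hC], Finset.sum_const, Finset.card_univ,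
    nsmul_eq_mul, ← mul_assoc] at hdeg
  have hte : ((Fintype.card (Cls h) : ℤ) * Fintype.card (ex h)) = ((p - 1 : ℕ) : ℤ) := by
    exact_mod_cast card_mul h
  rw [hte] at hdeg
  have hlt := h.deg
  have hp := h.lt
  have hm0 : C + c₀ = 0 := by
    by_contra hne
    have h1 : (1 : ℤ) ≤ C + c₀ := by omega
    have h2 : ((p - 1 : ℕ) : ℤ) * 1 ≤ ((p - 1 : ℕ) : ℤ) * (C + c₀) :=
      mul_le_mul_of_nonneg_left h1 (Int.natCast_nonneg _)
    omega
  rw [hm0, mul_zero, add_zero] at hdeg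
  have hx1 : (ζ : G → ℂ) x = (ζ : G → ℂ) 1 := by
    have h1 := crd_val h ζ 1
    rw [Units.val_one, pow_val_one (pow_eq_one_of_order h.ord)] at h1
    rw [h1, Finset.sum_congr rfl fun q _ => by rw [hc q 1, ← hC], ← Finset.mul_sum,
      sum_eta_shift, apply_one_zeta, show C = -(c₀ : ℤ) by omega]
    have : (Cfsg.charDegree (ζ : G → ℂ) : ℂ) = (c₀ : ℂ) := by exact_mod_cast hdeg
    rw [this]
    push_cast
    ring
  have h1 := h.faith x hx1
  have h2 := h.ord
  rw [h1, orderOf_one] at h2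
  omega

theorem two_le (h : Hyp p x ζ) : 2 ≤ Fintype.card (Cls h) := by
  by_contra hlt
  have : Subsingleton (Cls h) := Fintype.card_le_one_iff_subsingleton.1 (by omega)
  exact not_const h fun q q' => by rw [Subsingleton.elim q q']

open scoped Classical in
/-- The family over a central character. -/
theorem exists_spikes (h : Hyp p x ζ) (χ₀ : Cfsg.IrrCharacter G) :
    ∃ (Y : Cls h → Cfsg.IrrCharacter G) (c δ : ℤ), Function.Injective Y ∧ (δ = 1 ∨ δ = -1) ∧
      (∀ κ, Y κ ∈ slice h (lam χ₀)) ∧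
      (∀ κ q, crd h (Y κ) q = c + if q = κ then δ else 0) ∧
      ∀ χ ∈ slice h (lam χ₀), (∃ κ, Y κ = χ) ∨ ∀ q q', crd h χ q = crd h χ q' := by
  obtain ⟨Y, c, δ, hY, hδ, hval, hrest⟩ := Combin.shift_family
    (fun χ : slice h (lam χ₀) => crd h (χ : Cfsg.IrrCharacter G)) (Fintype.card (ex h) : ℤ)
    (fun q q' => slice_crd h χ₀ q q') (exists_shift h χ₀) (two_le h)
  refine ⟨fun κ => (Y κ : Cfsg.IrrCharacter G), c, δ, Subtype.val_injective.comp hY, hδ,
    fun κ => (Y κ).2, hval, fun χ hχ => ?_⟩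
  rcases hrest ⟨χ, hχ⟩ with ⟨κ, hκ⟩ | h1
  · exact Or.inl ⟨κ, congrArg Subtype.val hκ⟩
  · exact Or.inr h1

theorem self_mem_slice (h : Hyp p x ζ) (χ : Cfsg.IrrCharacter G) : χ ∈ slice h (lam χ) :=
  (mem_slice h).2 fun _ _ => rfl

open scoped Classical in
/-- A member of a family has degree prime to `p`. -/
theorem not_dvd_deg (h : Hyp p x ζ) {χ₀ : Cfsg.IrrCharacter G} {Y : Cls h → Cfsg.IrrCharacter G}
    {c δ : ℤ} (hY : Function.Injective Y) (hδ : δ = 1 ∨ δ = -1)
    (hmem : ∀ κ, Y κ ∈ slice h (lam χ₀))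
    (hval : ∀ κ q, crd h (Y κ) q = c + if q = κ then δ else 0) :
    ¬ p ∣ Cfsg.charDegree (Y 1 : G → ℂ) := by
  have hte := card_mul h
  have ht2 := two_le h
  have hle : ∑ κ, crd h (Y κ) 1 * crd h (Y κ) 1 ≤ 1 + (Fintype.card (ex h) : ℤ) := by
    rw [← Finset.sum_image (f := fun χ => crd h χ 1 * crd h χ 1) fun a _ b _ e => hY e]
    refine le_trans (Finset.sum_le_sum_of_subset_of_nonneg
      (Finset.image_subset_iff.2 fun κ _ => hmem κ) fun _ _ _ => mul_self_nonneg _) (le_of_eq ?_)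
    rw [← Finset.sum_coe_sort, slice_crd h χ₀ 1 1, if_pos rfl]
  obtain ⟨c₀, -, hdeg, -⟩ := exists_degree h (Y 1)
  set t : ℤ := (Fintype.card (Cls h) : ℤ) with ht
  set e : ℤ := (Fintype.card (ex h) : ℤ) with he
  have hY2 : ∑ κ, crd h (Y κ) 1 * crd h (Y κ) 1 = t * c ^ 2 + 2 * δ * c + 1 := by
    have hd2 : δ * δ = 1 := by rcases hδ with rfl | rfl <;> ring
    simp only [hval, add_mul, mul_add, ite_mul, mul_ite, zero_mul, mul_zero, Finset.sum_add_distrib,
      Finset.sum_ite_eq, Finset.mem_univ, if_true, Finset.sum_const, Finset.card_univ, nsmul_eq_mul]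
    rw [hd2]
    ring
  rw [hY2] at hle
  have hpe : t * e = (p : ℤ) - 1 := by
    have h1 := congrArg (Nat.cast (R := ℤ)) hte
    push_cast [Nat.cast_sub (Fact.out : p.Prime).one_le] at h1
    exact h1
  simp only [hval, mul_add, mul_ite, mul_zero, Finset.sum_add_distrib, Finset.sum_ite_eq',
    Finset.mem_univ, if_true, Finset.sum_const, Finset.card_univ, nsmul_eq_mul] at hdeg
  have hd2 : δ ^ 2 = 1 := by rcases hδ with rfl | rfl <;> ring
  have hsmall : (t * c + δ) ^ 2 ≤ (p : ℤ) := by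
    have : t * (t * c ^ 2 + 2 * δ * c) ≤ t * e := mul_le_mul_of_nonneg_left (by linarith) (by omega)
    nlinarith
  intro hdvd
  have h1 : (p : ℤ) ∣ e * (t * c + δ) := by
    have h2 : (p : ℤ) ∣ (Cfsg.charDegree (Y 1 : G → ℂ) : ℤ) := Int.natCast_dvd_natCast.2 hdvd
    have h3 : (Cfsg.charDegree (Y 1 : G → ℂ) : ℤ) = (p : ℤ) * c₀ + e * (t * c + δ) := by
      rw [hdeg, show (p : ℤ) = t * e + 1 by linarith]
      ring
    rw [h3] at h2
    exact (dvd_add_right (dvd_mul_right _ _)).1 h2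
  have hpi : Prime (p : ℤ) := Nat.prime_iff_prime_int.1 Fact.out
  rcases hpi.dvd_or_dvd h1 with h2 | h2
  · rw [he, Int.natCast_dvd_natCast] at h2
    have h3 := Nat.le_of_dvd Fintype.card_pos h2
    have : 2 * Fintype.card (ex h) ≤ Fintype.card (Cls h) * Fintype.card (ex h) :=
      Nat.mul_le_mul_right _ ht2
    have h9 := (Fact.out : p.Prime).two_le
    omega
  · have h3 : t * c + δ ≠ 0 := by
      intro h0
      have h4 : t ∣ δ := ⟨-c, by linarith⟩
      have h5 : t ≤ 1 := by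
        rcases hδ with rfl | rfl
        · exact Int.le_of_dvd one_pos h4
        · exact Int.le_of_dvd one_pos (dvd_neg.1 h4)
      omega
    have h4 : (p : ℤ) ≤ |t * c + δ| := Int.le_of_dvd (abs_pos.2 h3) ((dvd_abs _ _).2 h2)
    rw [← sq_abs] at hsmall
    have : (2 : ℤ) ≤ (p : ℤ) := by exact_mod_cast (Fact.out : p.Prime).two_le
    nlinarith


set_option maxHeartbeats 400000 in
open scoped Classical in
/-- The block of a family: `e` characters over its central character take the value of the sum of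
the family, up to sign. -/
theorem exists_block (h : Hyp p x ζ) {χ₀ : Cfsg.IrrCharacter G} {Y : Cls h → Cfsg.IrrCharacter G}
    {c δ : ℤ}
    (hY : Function.Injective Y) (hδ : δ = 1 ∨ δ = -1)
    (hmem : ∀ κ, Y κ ∈ slice h (lam χ₀))
    (hval : ∀ κ q, crd h (Y κ) q = c + if q = κ then δ else 0)
    (hrest : ∀ χ ∈ slice h (lam χ₀), (∃ κ, Y κ = χ) ∨ ∀ q q', crd h χ q = crd h χ q') :
    ∃ X : Finset (Cfsg.IrrCharacter G), X.card = Fintype.card (ex h) ∧ X ⊆ slice h (lam χ₀) ∧
      (∀ κ, Y κ ∉ X) ∧ ∀ χ ∈ X, ∀ q, crd h χ q = (Fintype.card (Cls h) : ℤ) * c + δ ∨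
        crd h χ q = -((Fintype.card (Cls h) : ℤ) * c + δ) := by
  have hp : p.Prime := Fact.out
  have hxp := pow_eq_one_of_order h.ord
  have hdiv := prime_dvd_card h
  obtain ⟨M, hM⟩ := Blocks.exists_isPModular p hp
  haveI : M.IsMaximal := hM.2.1
  haveI : CharP (Cfsg.Agent.Lib.BrauerPairs.Bridge.Res M) p :=
    BrauerPairs.Bridge.charP_res hM
  set η : Cfsg.IrrCharacter G := Y 1 with hηdef
  set B := Cfsg.blockOf M (η : G → ℂ) with hBdef
  have hB : Cfsg.IsPBlock M B := ⟨η, rfl⟩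
  have hv : (Nat.card G).factorization p = 1 := by
    have h1 := (hp.dvd_iff_one_le_factorization Nat.card_pos.ne').mp hdiv
    have h2 : ¬ 2 ≤ (Nat.card G).factorization p := fun h' =>
      h.sq ((hp.pow_dvd_iff_le_factorization Nat.card_pos.ne').mpr h')
    omega
  have hd1 : Cfsg.blockDefect p B = 1 := by
    have h0 : (Cfsg.charDegree (η : G → ℂ)).factorization p = 0 :=
      Nat.factorization_eq_zero_of_not_dvd (not_dvd_deg h hY hδ hmem hval)
    unfold Cfsg.blockDefect
    rw [hv]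
    have : sInf ((fun χ : Cfsg.IrrCharacter G =>
        (Cfsg.charDegree (χ : G → ℂ)).factorization p) '' B) = 0 :=
      Nat.le_zero.1 (Nat.sInf_le ⟨η, Blocks.mem_blockOf_self η, h0⟩)
    rw [this]
  obtain ⟨D, hBD⟩ := Blocks.exists_isDefectGroup (p := p) hB
  have hcard := Blocks.card_isDefectGroup hM hB hBD
  rw [hd1, pow_one] at hcard
  have hD := (BrauerPairs.Bridge.isDefectGroup_iff hB _).mp hBD
  obtain ⟨ω, hpair⟩ := BrauerPairs.Maximal.exists_pairOf_isDef hD
  obtain ⟨z, hz⟩ := CyclicBlocks.Local.exists_cyc (BrauerPairs.Maximal.top_of_isDef hpair hD) hpair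
    (isCyclic_of_prime_card hcard) (fun h' => by
      rw [h', Subgroup.card_bot] at hcard
      exact hp.one_lt.ne hcard)
  obtain rfl : D = Subgroup.zpowers z :=
    (Subgroup.eq_of_le_of_card_ge (Subgroup.zpowers_le.mpr hz.mem)
      (by rw [Nat.card_zpowers, hz.order, hcard])).symm
  obtain ⟨X, W, ε, ε₀, hs, hWorb, hXfix⟩ := CyclicBlocks.Galois.exists_struct hM h.sq hz
  rw [BrauerPairs.Bridge.toSet_blk] at hs
  -- conjugation by the units
  have hgal : ∀ v ∈ BC77.PConj.gal (G := G) p, ∀ κ, ∃ κ', v • Y κ = Y κ' := by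
    intro v hv' κ
    have hψ : ∀ g, ((v • Y κ : Cfsg.IrrCharacter G) : G → ℂ) g =
        (Y κ : G → ℂ) (g ^ BC77.PConj.expo (G := G) v) := fun g => BC77.PConj.smul_apply v (Y κ) g
    have hne : ((BC77.PConj.expo (G := G) v : ℕ) : ZMod p) ≠ 0 := by
      rw [Ne, ZMod.natCast_eq_zero_iff]
      intro hd
      exact hp.coprime_iff_not_dvd.1 ((BC77.PConj.expo_coprime v).of_dvd hd hdiv) (dvd_refl p)
    have hslice : v • Y κ ∈ slice h (lam χ₀) := (mem_slice h).2 fun w hw => by
      rw [lam_conj hψ (BC77.PConj.pow_expo_regular p hv'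
        fun hd => not_dvd_center h (hd.trans (Subgroup.orderOf_dvd_natCard _ hw)))]
      exact (mem_slice h).1 (hmem κ) w hw
    rcases hrest _ hslice with ⟨κ', hκ'⟩ | hc
    · exact ⟨κ', hκ'.symm⟩
    exfalso
    obtain ⟨a, ha⟩ := Fintype.exists_ne_of_one_lt_card
      (show 1 < Fintype.card (Cls h) by have := two_le h; omega) (1 : Cls h)
    have h1 := hc (κ * QuotientGroup.mk (Units.mk0 _ hne)) (κ * a * QuotientGroup.mk (Units.mk0 _ hne))
    rw [crd_conj h hψ (u := Units.mk0 _ hne) rfl, crd_conj h hψ (u := Units.mk0 _ hne) rfl,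
      mul_inv_cancel_right, mul_inv_cancel_right, hval, hval, if_pos rfl,
      if_neg (fun h' => ha (mul_eq_left.1 h'))] at h1
    rcases hδ with rfl | rfl <;> omega
  have hconjY : ∀ κ κ', ∃ v ∈ BC77.PConj.gal (G := G) p, v • Y κ = Y κ' := by
    intro κ κ'
    obtain ⟨w, hw⟩ := QuotientGroup.mk_surjective (κ⁻¹ * κ')
    obtain ⟨v, hv', hva⟩ := CyclicBlocks.Galois.exists_gal_congr (G := G) h.sq hdiv
      (a := (w : ZMod p).val) (fun hd => w.ne_zero (by
        rw [← ZMod.natCast_zmod_val (w : ZMod p), (ZMod.natCast_eq_zero_iff _ _).mpr hd]))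
    refine ⟨v, hv', ?_⟩
    obtain ⟨κ'', hκ''⟩ := hgal v hv' κ
    have hku : ((BC77.PConj.expo (G := G) v : ℕ) : ZMod p) = (w : ZMod p) := by
      rw [(ZMod.natCast_eq_natCast_iff _ _ _).mpr hva, ZMod.natCast_zmod_val]
    have h1 := crd_conj h (fun g => BC77.PConj.smul_apply v (Y κ) g) hku κ''
    rw [hκ'', hval, hval, if_pos rfl, hw] at h1
    have h2 : κ'' * (κ⁻¹ * κ')⁻¹ = κ := by
      by_contra hne
      rw [if_neg hne] at h1
      rcases hδ with rfl | rfl <;> omega
    rw [hκ'']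
    refine congrArg Y ?_
    rw [mul_inv_rev, inv_inv] at h2
    rw [← mul_inv_cancel_right κ'' (κ'⁻¹ * κ), h2, mul_inv_rev, inv_inv, mul_inv_cancel_left]
  obtain ⟨κ₀, hκ₀⟩ : ∃ κ₀, Y κ₀ = η := ⟨1, rfl⟩
  have hζB : η ∈ B := Blocks.mem_blockOf_self η
  have hζW : η ∈ W := by
    refine ((hs.mem_iff η).mp hζB).resolve_left fun hζX => ?_
    obtain ⟨a, ha⟩ := Fintype.exists_ne_of_one_lt_card
      (show 1 < Fintype.card (Cls h) by have := two_le h; omega) κ₀
    obtain ⟨v, hv', hva⟩ := hconjY κ₀ a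
    rw [hκ₀] at hva
    refine ha (hY ?_)
    rw [hκ₀]
    exact hXfix η hζX (Y a) ⟨⟨v, hv'⟩, hva⟩
  have hW : W = Finset.univ.image Y := by
    ext φ
    rw [← hWorb η hζW φ, Finset.mem_image]
    constructor
    · rintro ⟨⟨v, hv'⟩, rfl⟩
      obtain ⟨κ', hκ'⟩ := hgal v hv' κ₀
      rw [hκ₀] at hκ'
      exact ⟨κ', Finset.mem_univ _, hκ'.symm⟩
    · rintro ⟨κ', -, rfl⟩
      obtain ⟨v, hv', hva⟩ := hconjY κ₀ κ'
      rw [hκ₀] at hva
      exact ⟨⟨v, hv'⟩, hva⟩
  have hWcard : W.card = Fintype.card (Cls h) := by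
    rw [hW, Finset.card_image_of_injective _ hY, Finset.card_univ]
  have hXcard : X.card = Fintype.card (ex h) := by
    have h1 := hs.cardY
    have h2 := card_mul h
    have := h.lt
    rw [hWcard] at h1
    rw [hs.cardX]
    exact Nat.eq_of_mul_eq_mul_right
      (show 0 < Fintype.card (Cls h) by have := two_le h; omega)
      (by rw [Nat.mul_comm (Fintype.card (ex h))]; omega)
  set T : ℤ := (Fintype.card (Cls h) : ℤ) * c + δ with hT
  have hsumW : ∀ (u : (ZMod p)ˣ), ∀ w ∈ Subgroup.center G,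
      ∑ η ∈ W, (η : G → ℂ) (x ^ (u : ZMod p).val * w) = lam χ₀ w * (-(T : ℂ)) := by
    intro u w hw
    rw [hW, Finset.sum_image fun a _ b _ e => hY e]
    simp only [apply_mul_central _ hw, (mem_slice h).1 (hmem _) w hw, ← Finset.mul_sum, crd_val h,
      hval, Int.cast_add, add_mul, Finset.sum_add_distrib]
    congr 1
    simp only [Int.cast_ite, Int.cast_zero, ite_mul, zero_mul, Finset.sum_ite_eq', Finset.mem_univ,
      if_true, Finset.sum_const, Finset.card_univ, nsmul_eq_mul, ← Finset.mul_sum, sum_eta_shift]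
    rw [hT]
    push_cast
    ring
  have hT0 : T ≠ 0 := by
    have ht := two_le h
    intro h0
    have h1 : (Fintype.card (Cls h) : ℤ) ∣ δ := ⟨-c, by linarith⟩
    have h2 : (Fintype.card (Cls h) : ℤ) ≤ 1 := by
      rcases hδ with rfl | rfl
      · exact Int.le_of_dvd one_pos h1
      · exact Int.le_of_dvd one_pos ((dvd_neg).1 h1)
    omega
  have hsing : ∀ (u : (ZMod p)ˣ), ∀ w ∈ Subgroup.center G,
      p ∣ orderOf (x ^ (u : ZMod p).val * w) := by
    intro u w hw
    have hreg : ¬ p ∣ orderOf w := fun hd =>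
      not_dvd_center h (hd.trans (Subgroup.orderOf_dvd_natCard _ hw))
    rw [(show Commute (x ^ (u : ZMod p).val) w from
      Subgroup.mem_center_iff.1 hw _).orderOf_mul_eq_mul_orderOf_of_coprime (by
        rw [orderOf_pow_unit h u]; exact hp.coprime_iff_not_dvd.2 hreg), orderOf_pow_unit h u]
    exact dvd_mul_right _ _
  have hXval : ∀ χ ∈ X, ∀ (u : (ZMod p)ˣ), ∀ w ∈ Subgroup.center G,
      (χ : G → ℂ) (x ^ (u : ZMod p).val * w) = -((ε χ * ε₀ * T : ℤ) : ℂ) * lam χ₀ w := by
    intro χ hχ u w hw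
    have h1 := hs.congrY χ hχ _ (hsing u w hw)
    rw [hsumW u w hw] at h1
    have h2 : ((ε χ * ε χ : ℤ) : ℂ) = 1 := by rcases hs.sign χ hχ with e | e <;> simp [e]
    push_cast at h2 ⊢
    linear_combination (ε χ : ℂ) * h1 - (χ : G → ℂ) (x ^ (u : ZMod p).val * w) * h2
  refine ⟨X, hXcard, fun χ hχ => (mem_slice h).2 fun w hw => ?_, fun κ hκ => ?_, fun χ hχ q => ?_⟩
  · have h1 := hXval χ hχ 1 w hw
    have h0 := hXval χ hχ 1 1 (one_mem _)
    rw [mul_one] at h0
    rw [apply_mul_central χ hw, h0, lam_one, mul_one, mul_comm] at h1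
    refine mul_left_cancel₀ (neg_ne_zero.2 (Int.cast_ne_zero.2 ?_)) h1
    rcases hs.sign χ hχ with e | e <;> rcases hs.sign₀ with e' | e' <;> simp [e, e', hT0]
  · exact Finset.disjoint_left.mp hs.disjoint hκ (hW ▸ Finset.mem_image_of_mem Y (Finset.mem_univ κ))
  · have h1 : crd h χ = fun _ => ε χ * ε₀ * T := by
      refine coord_unique h fun u => ?_
      rw [← crd_val, ← mul_one (x ^ (u : ZMod p).val), hXval χ hχ u 1 (one_mem _), lam_one,
        mul_one, ← Finset.mul_sum, sum_eta_shift]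
      ring
    rw [congrFun h1 q]
    rcases hs.sign χ hχ with e | e <;> rcases hs.sign₀ with e' | e' <;> simp [e, e']

open scoped Classical in
/-- The common coordinate of the family of `ζ`. -/
theorem coord_bound (h : Hyp p x ζ) {χ₀ : Cfsg.IrrCharacter G} {Y : Cls h → Cfsg.IrrCharacter G}
    {c δ : ℤ}
    (hY : Function.Injective Y) (hδ : δ = 1 ∨ δ = -1)
    (hmem : ∀ κ, Y κ ∈ slice h (lam χ₀))
    (hval : ∀ κ q, crd h (Y κ) q = c + if q = κ then δ else 0)
    (hrest : ∀ χ ∈ slice h (lam χ₀), (∃ κ, Y κ = χ) ∨ ∀ q q', crd h χ q = crd h χ q') :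
    c = 0 ∨ (Fintype.card (Cls h) = 2 ∧ c = -δ) := by
  obtain ⟨X, hXc, hXs, hXY, hXv⟩ := exists_block h hY hδ hmem hval hrest
  have hd : Disjoint (Finset.univ.image Y) X := by
    rw [Finset.disjoint_left]
    rintro _ hκ
    obtain ⟨κ, -, rfl⟩ := Finset.mem_image.1 hκ
    exact hXY κ
  have hall : ∑ χ ∈ slice h (lam χ₀), crd h χ 1 * crd h χ 1 = 1 + (Fintype.card (ex h) : ℤ) := by
    rw [← Finset.sum_coe_sort, slice_crd h χ₀ 1 1, if_pos rfl]
  have hle : ∑ χ ∈ (Finset.univ.image Y) ∪ X, crd h χ 1 * crd h χ 1 ≤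
      ∑ χ ∈ slice h (lam χ₀), crd h χ 1 * crd h χ 1 := by
    refine Finset.sum_le_sum_of_subset_of_nonneg (Finset.union_subset ?_ hXs)
      fun _ _ _ => mul_self_nonneg _
    exact Finset.image_subset_iff.2 fun κ _ => hmem κ
  rw [Finset.sum_union hd, Finset.sum_image fun a _ b _ e => hY e, hall] at hle
  set t : ℤ := (Fintype.card (Cls h) : ℤ) with ht
  set e : ℤ := (Fintype.card (ex h) : ℤ) with he
  have hX2 : ∑ χ ∈ X, crd h χ 1 * crd h χ 1 = e * (t * c + δ) ^ 2 := by
    rw [Finset.sum_congr rfl fun χ hχ => show crd h χ 1 * crd h χ 1 = (t * c + δ) ^ 2 by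
      rcases hXv χ hχ 1 with h' | h' <;> rw [h'] <;> ring, Finset.sum_const, hXc, nsmul_eq_mul]
  have hY2 : ∑ κ, crd h (Y κ) 1 * crd h (Y κ) 1 = t * c ^ 2 + 2 * δ * c + 1 := by
    have hd2 : δ * δ = 1 := by rcases hδ with rfl | rfl <;> ring
    simp only [hval, add_mul, mul_add, ite_mul, mul_ite, zero_mul, mul_zero, Finset.sum_add_distrib,
      Finset.sum_ite_eq, Finset.mem_univ, if_true, Finset.sum_const, Finset.card_univ, nsmul_eq_mul]
    rw [hd2]
    ring
  rw [hX2, hY2] at hle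
  have ht2 : (2 : ℤ) ≤ t := by rw [ht]; exact_mod_cast two_le h
  have he1 : (1 : ℤ) ≤ e := by rw [he]; exact_mod_cast Fintype.card_pos
  have h1 : (1 + t * e) * (c * (t * c + 2 * δ)) ≤ 0 := by
    have hd2 : δ ^ 2 = 1 := by rcases hδ with rfl | rfl <;> ring
    have : (1 + t * e) * (c * (t * c + 2 * δ)) =
        t * c ^ 2 + 2 * δ * c + e * ((t * c + δ) ^ 2 - δ ^ 2) := by ring
    rw [this, hd2]
    linarith
  have h2 : c * (t * c + 2 * δ) ≤ 0 := by
    by_contra hlt
    push Not at hlt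
    have := mul_pos (show (0 : ℤ) < 1 + t * e by nlinarith) hlt
    omega
  rcases lt_trichotomy c 0 with hc | hc | hc
  · rcases hδ with rfl | rfl
    · refine Or.inr ⟨?_, ?_⟩
      · have : t = 2 := by
          by_contra hne
          have h3 : t * c ≤ -3 := by
            nlinarith [mul_nonneg (show (0 : ℤ) ≤ t - 3 by omega) (show (0 : ℤ) ≤ -c by omega)]
          nlinarith [mul_pos (show (0 : ℤ) < -c by omega) (show (0 : ℤ) < -(t * c + 2) by omega)]
        rw [ht] at this
        exact_mod_cast this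
      · by_contra hne
        have hc2 : c ≤ -2 := by omega
        have h3 : t * c ≤ -4 := by
          nlinarith [mul_nonneg (show (0 : ℤ) ≤ t - 2 by omega) (show (0 : ℤ) ≤ -c by omega)]
        nlinarith [mul_pos (show (0 : ℤ) < -c by omega) (show (0 : ℤ) < -(t * c + 2) by omega)]
    · nlinarith
  · exact Or.inl hc
  · rcases hδ with rfl | rfl
    · nlinarith
    · refine Or.inr ⟨?_, ?_⟩
      · have : t = 2 := by
          by_contra hne
          have h3 : 3 ≤ t * c := by
            nlinarith [mul_nonneg (show (0 : ℤ) ≤ t - 3 by omega) (show (0 : ℤ) ≤ c by omega)]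
          nlinarith [mul_pos (show (0 : ℤ) < c by omega) (show (0 : ℤ) < t * c - 2 by omega)]
        rw [ht] at this
        exact_mod_cast this
      · by_contra hne
        have hc2 : 2 ≤ c := by omega
        have h3 : 4 ≤ t * c := by
          nlinarith [mul_nonneg (show (0 : ℤ) ≤ t - 2 by omega) (show (0 : ℤ) ≤ c by omega)]
        nlinarith [mul_pos (show (0 : ℤ) < c by omega) (show (0 : ℤ) < t * c - 2 by omega)]

open scoped Classical in
/-- With at least three classes the degree is `p - e` and the values are negated periods. -/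
theorem exists_value (h : Hyp p x ζ) (ht : 3 ≤ Fintype.card (Cls h)) :
    ∃ κ₀ : Cls h, (∀ q, crd h ζ q = if q = κ₀ then -1 else 0) ∧
      Cfsg.charDegree (ζ : G → ℂ) + Fintype.card (ex h) = p ∧
      ∑ a : ZMod p, (ζ : G → ℂ) (x ^ a.val) = (p : ℂ) := by
  obtain ⟨Y, c, δ, hY, hδ, hmem, hval, hrest⟩ := exists_spikes h ζ
  obtain ⟨κ₀, hκ₀⟩ := (hrest ζ (self_mem_slice h ζ)).resolve_right (not_const h)
  have hc : c = 0 := (coord_bound h hY hδ hmem hval hrest).resolve_right fun h' => by omega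
  obtain ⟨c₀, hpos, hdeg, hsum⟩ := exists_degree h ζ
  have hq : ∀ q, crd h ζ q = if q = κ₀ then δ else 0 := fun q => by
    have h1 := hval κ₀ q
    rw [hc, zero_add, congrArg (fun χ : Cfsg.IrrCharacter G => crd h χ q) hκ₀] at h1
    exact h1
  have hte := card_mul h
  have hp := h.lt
  have hlt := h.deg
  have hlow := le_deg h
  set t := Fintype.card (Cls h) with htdef
  set e := Fintype.card (ex h) with hedef
  simp only [hq, mul_add, mul_ite, mul_zero, Finset.sum_add_distrib, Finset.sum_ite_eq',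
    Finset.mem_univ, if_true, Finset.sum_const, Finset.card_univ, nsmul_eq_mul] at hdeg
  rw [← htdef] at hdeg
  have hte' : (t : ℤ) * e = (p : ℤ) - 1 := by
    have h1 := congrArg (Nat.cast (R := ℤ)) hte
    push_cast [Nat.cast_sub (show 1 ≤ p by omega)] at h1
    exact h1
  have hdeg' : (Cfsg.charDegree (ζ : G → ℂ) : ℤ) = (p : ℤ) * c₀ + δ * e := by
    rw [hdeg, show (p : ℤ) = t * e + 1 by omega]
    ring
  have hn1 : (Cfsg.charDegree (ζ : G → ℂ) : ℤ) + 1 < p := by exact_mod_cast hlt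
  have hn2 : (p : ℤ) ≤ 2 * (Cfsg.charDegree (ζ : G → ℂ) : ℤ) + 1 := by exact_mod_cast hlow
  have he1 : (1 : ℤ) ≤ e := by rw [hedef]; exact_mod_cast Fintype.card_pos
  have ht3 : (3 : ℤ) ≤ t := by exact_mod_cast ht
  have h3e : 3 * (e : ℤ) + 1 ≤ p := by nlinarith
  rcases hδ with rfl | rfl
  · exfalso
    rcases Nat.eq_zero_or_pos c₀ with h0 | h0
    · rw [h0] at hdeg'
      push_cast at hdeg'
      omega
    · have : (p : ℤ) * 1 ≤ p * c₀ := mul_le_mul_of_nonneg_left (by exact_mod_cast h0) (by omega)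
      omega
  · have hc0 : c₀ = 1 := by
      rcases Nat.lt_or_ge c₀ 2 with h' | h'
      · rcases Nat.eq_zero_or_pos c₀ with h0 | h0
        · rw [h0] at hdeg'
          push_cast at hdeg'
          omega
        · omega
      · exfalso
        have : (p : ℤ) * 2 ≤ p * c₀ := mul_le_mul_of_nonneg_left (by exact_mod_cast h') (by omega)
        omega
    rw [hc0] at hdeg' hsum
    refine ⟨κ₀, hq, by push_cast at hdeg'; omega, ?_⟩
    rw [hsum, Nat.cast_one, mul_one]

end Cfsg.Agent.Lib.Small80.Spikes
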