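import Cfsg.Agent.Lib.Small80.Basic
import Cfsg.Agent.Lib.Small80.Family
import Cfsg.Agent.Lib.FeitSmall.Half
import Cfsg.Agent.Lib.FeitSmall.Budget
import Cfsg.Agent.S4465

/-!
# The subgroup generated by the elements of order `p`

It is perfect, simple modulo its centre, its centre has exponent dividing the degree, and with two
classes the Galois conjugates of the character fixing the centre and the classes fix it.
-/

set_option autoImplicit false
set_option linter.unusedSectionVars false
set_option linter.style.haveILetI false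

namespace Cfsg.Agent.Lib.Small80.Core

open Cfsg.Agent.Lib Cfsg.Agent.Lib.FirstPower Average Periods Cfsg.Agent.Lib.Characters.Basic
open Family (pow_eq_one_of_order)
open Small80.Setup Small80.Spikes
open Cfsg.Agent.Lib.DegSubTwo.Basic (lam lam_one lam_pow pw pw_apply apply_mul_central)
open Cfsg.Agent.Lib.DegSubTwo.Reduction (gen_core nn_core core' exists_conj_eq)

attribute [local instance] BlocksChars5.Basic.irrFintype

universe u

variable {p : ℕ} [Fact p.Prime] {G : Type u} [Group G] [Finite G] {x : G}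
  {ζ : Cfsg.IrrCharacter G}

/-- A normal subgroup containing an element of order `p` contains the normal closure of `x`. -/
theorem le_of_dvd (h : Hyp p x ζ) (N : Subgroup G) [N.Normal] (hd : p ∣ Nat.card N) : x ∈ N := by
  obtain ⟨⟨u, hu⟩, huo⟩ := exists_prime_orderOf_dvd_card' p hd
  rw [Subgroup.orderOf_mk] at huo
  exact (exists_conj_eq huo h.sq N hu x h.ord).1

/-- A normal subgroup of order prime to `p` commutes with the normal closure of `x`. -/
theorem centralizes (h : Hyp p x ζ) {N : Subgroup G} [N.Normal] (hd : ¬ p ∣ Nat.card N) {g : G}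
    (hg : g ∈ core' x) {k : G} (hk : k ∈ N) : k * g = g * k := by
  have hle : core' x ≤ Subgroup.centralizer ({k} : Set G) := by
    refine (Subgroup.closure_le _).2 fun v hv => ?_
    obtain ⟨b, hb, hbv⟩ := Group.mem_conjugatesOfSet_iff.1 hv
    rw [Set.mem_singleton_iff] at hb
    subst hb
    obtain ⟨c, rfl⟩ := isConj_iff.1 hbv
    refine Subgroup.mem_centralizer_singleton_iff.2 ?_
    exact (FeitSmall.Half.centralizes (y := c * b * c⁻¹)
      (by rw [← MulAut.conj_apply, MulEquiv.orderOf_eq, h.ord]) hd (isCharacter_irr ζ) h.faith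
      h.deg k hk).symm
  exact (Subgroup.mem_centralizer_singleton_iff.1 (hle hg)).symm

variable (h : Hyp p x ζ) (hgen : Subgroup.normalClosure ({x} : Set G) = ⊤)

include h in
theorem not_comm : ∃ a : G, a * x * a⁻¹ * x⁻¹ ≠ 1 := by
  by_contra hcon
  push Not at hcon
  have hc : x ∈ Subgroup.center G := Subgroup.mem_center_iff.2 fun a => by
    have h1 := hcon a
    rwa [mul_inv_eq_one, mul_inv_eq_iff_eq_mul] at h1
  exact not_dvd_center h (h.ord ▸ Subgroup.orderOf_dvd_natCard _ hc)

include h hgen in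
theorem perfect : commutator G = ⊤ := by
  have hp : p.Prime := Fact.out
  by_cases hd : p ∣ Nat.card (commutator G)
  · refine top_le_iff.1 (hgen ▸ Subgroup.normalClosure_le_normal ?_)
    exact Set.singleton_subset_iff.2 (le_of_dvd h _ hd)
  exfalso
  obtain ⟨a, ha⟩ := not_comm h
  set k := a * x * a⁻¹ * x⁻¹ with hk
  have hkm : k ∈ commutator G :=
    Subgroup.commutator_mem_commutator (Subgroup.mem_top a) (Subgroup.mem_top x)
  have hkx : Commute k x := centralizes h hd (Subgroup.subset_normalClosure rfl) hkm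
  have hxp := pow_eq_one_of_order h.ord
  have h1 : (k * x) ^ p = 1 := by
    rw [hk, inv_mul_cancel_right, conj_pow, hxp, mul_one, mul_inv_cancel]
  rw [hkx.mul_pow, hxp, mul_one] at h1
  rcases (Nat.dvd_prime hp).1 (orderOf_dvd_of_pow_eq_one h1) with h2 | h2
  · exact ha (orderOf_eq_one_iff.1 h2)
  · exact hd (h2 ▸ Subgroup.orderOf_dvd_natCard _ hkm)

include h hgen in
/-- The centre has exponent dividing the degree. -/
theorem pow_deg {z : G} (hz : z ∈ Subgroup.center G) :
    z ^ Cfsg.charDegree (ζ : G → ℂ) = 1 := by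
  obtain ⟨n, ρ, hρ, hρχ⟩ := exists_rep ζ
  haveI := hρ
  have hn : Cfsg.charDegree (ζ : G → ℂ) = n := by
    have h0 : (ζ : G → ℂ) 1 = n := by
      rw [← hρχ, Representation.char_one, Module.finrank_fin_fun]
    exact_mod_cast (apply_one_zeta ζ).symm.trans h0
  have h7 := Basic.det_of_commutator ρ (a := z) (by rw [perfect h hgen]; exact Subgroup.mem_top z)
  rw [FeitSmall.Budget.rho_center ρ hρχ hz, LinearMap.det_smul, Module.finrank_fin_fun, map_one,
    mul_one, ← hn, ← lam_pow ζ hz] at h7
  refine h.faith _ ?_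
  have h8 := apply_mul_central ζ (pow_mem hz (Cfsg.charDegree (ζ : G → ℂ))) (1 : G)
  rwa [one_mul, h7, one_mul] at h8

include h hgen in
theorem center_eq_of_not_dvd (N : Subgroup G) [N.Normal] (hd : ¬ p ∣ Nat.card N) :
    N ≤ Subgroup.center G := fun k hk => Subgroup.mem_center_iff.2 fun g =>
  (centralizes h hd (g := g) (show g ∈ core' x by rw [core', hgen]; trivial) hk).symm

include h hgen in
/-- The central quotient is simple. -/
theorem simple : IsSimpleGroup (G ⧸ Subgroup.center G) ∧
    ¬ IsMulCommutative (G ⧸ Subgroup.center G) := by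
  have hxc : x ∉ Subgroup.center G := fun hc =>
    not_dvd_center h (h.ord ▸ Subgroup.orderOf_dvd_natCard _ hc)
  haveI : Nontrivial (G ⧸ Subgroup.center G) :=
    ⟨⟨(x : G ⧸ Subgroup.center G), 1, fun e => hxc ((QuotientGroup.eq_one_iff x).1 e)⟩⟩
  constructor
  · refine ⟨fun N hN => ?_⟩
    haveI := hN
    set M := N.comap (QuotientGroup.mk' (Subgroup.center G)) with hM
    have hmap : M.map (QuotientGroup.mk' (Subgroup.center G)) = N :=
      Subgroup.map_comap_eq_self_of_surjective (QuotientGroup.mk'_surjective _) N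
    by_cases hd : p ∣ Nat.card M
    · right
      have htop : M = ⊤ := top_le_iff.1 (hgen ▸ Subgroup.normalClosure_le_normal
        (Set.singleton_subset_iff.2 (le_of_dvd h M hd)))
      rw [← hmap, htop, Subgroup.map_top_of_surjective _ (QuotientGroup.mk'_surjective _)]
    · left
      rw [← hmap, Subgroup.map_eq_bot_iff, QuotientGroup.ker_mk']
      exact center_eq_of_not_dvd h hgen M hd
  · intro hcomm
    have hle : commutator G ≤ Subgroup.center G := by
      rw [commutator_def, Subgroup.commutator_le]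
      intro a _ b _
      rw [← QuotientGroup.eq_one_iff, commutatorElement_def, QuotientGroup.mk_mul,
        QuotientGroup.mk_mul, QuotientGroup.mk_mul, QuotientGroup.mk_inv, QuotientGroup.mk_inv,
        hcomm.is_comm.comm (a : G ⧸ Subgroup.center G) b, mul_inv_cancel_right, mul_inv_cancel]
    exact hxc (hle (by rw [perfect h hgen]; exact Subgroup.mem_top x))

include h in
/-- The order of the central quotient. -/
theorem card_quotient : ∃ n : ℕ, n % p = 1 ∧
    Nat.card (G ⧸ Subgroup.center G) = Fintype.card (ex h) * p * n := by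
  have hp : p.Prime := Fact.out
  obtain ⟨P, hP⟩ := Consequences.exists_sylow h.ord h.sq
  refine ⟨Nat.card (Sylow p G), ?_, ?_⟩
  · have h1 : Nat.card (Sylow p G) % p = 1 % p := card_sylow_modEq_one p G
    rwa [Nat.mod_eq_of_lt hp.one_lt] at h1
  · refine Nat.eq_of_mul_eq_mul_right (Nat.card_pos (α := Subgroup.center G)) ?_
    rw [← Subgroup.card_eq_card_quotient_mul_card_subgroup,
      Sylow.card_eq_index_normalizer P, ← Subgroup.card_mul_index
        (Subgroup.normalizer ((P : Subgroup G) : Set G)), hP, Consequences.card_normalizer h.ord,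
      card_centralizer_x h, Nat.card_eq_fintype_card (α := ex h)]
    rw [← hP]
    simp only [Sylow.coe_coe]
    ring

include h hgen in
/-- No other prime above the degree plus one divides the order. -/
theorem not_dvd {q : ℕ} (hq : q.Prime) (hqp : q ≠ p)
    (hqd : Cfsg.charDegree (ζ : G → ℂ) + 1 < q) : ¬ q ∣ Nat.card G := by
  intro hdvd
  have hp : p.Prime := Fact.out
  haveI : Fact q.Prime := ⟨hq⟩
  obtain ⟨A, hA, -, hAi⟩ := Cfsg.Agent.S4465.result (ζ : G → ℂ) (isCharacter_irr ζ) h.faith _ rfl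
  have hmem : ∀ r : ℕ, r.Prime → r ∣ Nat.card G → Cfsg.charDegree (ζ : G → ℂ) + 1 < r →
      r ∣ Nat.card A := by
    intro r hr hrd hlt
    rw [← Subgroup.card_mul_index A] at hrd
    refine (hr.dvd_mul.1 hrd).resolve_right fun h1 => ?_
    have := hAi r hr h1
    omega
  obtain ⟨⟨v, hv⟩, hvo⟩ := exists_prime_orderOf_dvd_card' q (hmem q hq hdvd hqd)
  obtain ⟨⟨a, ha⟩, hao⟩ :=
    exists_prime_orderOf_dvd_card' p (hmem p hp (prime_dvd_card h) h.deg)
  rw [Subgroup.orderOf_mk] at hvo hao
  obtain ⟨-, b, -, hb⟩ := exists_conj_eq h.ord h.sq ⊤ (Subgroup.mem_top x) a hao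
  have hxp := pow_eq_one_of_order h.ord
  obtain ⟨j, hj⟩ := (mem_zpowers_iff_val hxp).1 hb
  have hj0 : j ≠ 0 := fun h0 => by
    rw [h0, ZMod.val_zero, pow_zero, eq_comm, conj_eq_one_iff] at hj
    rw [hj, orderOf_one] at hao
    exact hp.one_lt.ne hao
  have hvx : b * v * b⁻¹ ∈ Subgroup.centralizer ({x} : Set G) := by
    rw [← centralizer_pow_unit h (Units.mk0 j hj0), Units.val_mk0, hj,
      Subgroup.mem_centralizer_singleton_iff]
    calc b * v * b⁻¹ * (b * a * b⁻¹) = b * (v * a) * b⁻¹ := by group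
      _ = b * (a * v) * b⁻¹ := by rw [hA v hv a ha]
      _ = _ := by group
  obtain ⟨i, ⟨z, hz⟩, hbv⟩ := exists_decomp h.ord h.sq (isVPart_center h) hvx
  have hz0 : z ∈ Subgroup.center G := hz
  set d := Cfsg.charDegree (ζ : G → ℂ) with hd
  have h1 : (b * v * b⁻¹) ^ (d * p) = 1 := by
    rw [hbv, ((show Commute (x ^ i.val) z from Subgroup.mem_center_iff.1 hz0 _)).mul_pow,
      pow_mul z, pow_deg h hgen hz0, one_pow, mul_one, ← pow_mul,
      show i.val * (d * p) = p * (i.val * d) by ring, pow_mul, hxp, one_pow]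
  rw [conj_pow, mul_inv_eq_one, mul_eq_left] at h1
  have h2 := orderOf_dvd_of_pow_eq_one h1
  rw [hvo] at h2
  rcases hq.dvd_mul.1 h2 with h3 | h3
  · have := Nat.le_of_dvd (BlocksChars5.Basic.degree_pos ζ) h3
    omega
  · exact hqp ((Nat.prime_dvd_prime_iff_eq hq hp).1 h3)

include h in
/-- With two classes a conjugate fixing the classes and the centre is the character itself. -/
theorem apply_pow (h2 : Fintype.card (Cls h) = 2) {k : ℕ} (hk : k.Coprime (Nat.card G))
    {u : (ZMod p)ˣ} (hku : (k : ZMod p) = u) (hu : u ∈ ex h)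
    (hkz : ∀ z ∈ Subgroup.center G, z ^ k = z) (g : G) :
    (ζ : G → ℂ) (g ^ k) = (ζ : G → ℂ) g := by
  classical
  obtain ⟨Y, c, δ, hY, hδ, hmem, hval, hrest⟩ := exists_spikes h ζ
  obtain ⟨κ₀, hκ₀⟩ := (hrest ζ (self_mem_slice h ζ)).resolve_right (not_const h)
  have hψmem : pw ζ hk ∈ slice h (lam ζ) := (mem_slice h).2 fun z hz =>
    lam_conj (fun a => pw_apply ζ hk a) (hkz z hz)
  have hcrd : ∀ q, crd h (pw ζ hk) q = crd h ζ q := fun q => by
    rw [crd_conj h (fun a => pw_apply ζ hk a) (u := u) hku, (QuotientGroup.eq_one_iff u).2 hu,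
      inv_one, mul_one]
  obtain ⟨κ, hκ⟩ := (hrest _ hψmem).resolve_right fun hc =>
    not_const h fun q q' => by rw [← hcrd, ← hcrd]; exact hc q q'
  have hκκ : κ = κ₀ := by
    by_contra hne
    have e1 : crd h (Y κ) κ = crd h (Y κ₀) κ := by rw [hκ, hκ₀]; exact hcrd κ
    rw [hval, hval, if_pos rfl, if_neg hne] at e1
    rcases hδ with rfl | rfl <;> omega
  have e2 : pw ζ hk = ζ := by rw [← hκ, hκκ, hκ₀]
  rw [← pw_apply ζ hk, e2]

/-- Exponents with prescribed residues at a prime and away from it. -/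
theorem exists_exp (G : Type u) [Group G] [Finite G] {r u v : ℕ} (hr : r.Prime) (hu : u.Coprime r)
    (hv : v.Coprime (Nat.card G / r ^ (Nat.card G).factorization r)) :
    ∃ k : ℕ, k.Coprime (Nat.card G) ∧ k ≡ u [MOD r ^ (Nat.card G).factorization r] ∧
      k ≡ v [MOD Nat.card G / r ^ (Nat.card G).factorization r] := by
  set a := (Nat.card G).factorization r
  have hcop : (r ^ a).Coprime (Nat.card G / r ^ a) :=
    (Nat.coprime_ordCompl hr Nat.card_pos.ne').pow_left _
  obtain ⟨k, hk1, hk2⟩ := Nat.chineseRemainder hcop u v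
  refine ⟨k, ?_, hk1, hk2⟩
  rw [← Nat.ordProj_mul_ordCompl_eq_self (Nat.card G) r]
  refine Nat.Coprime.mul_right ?_ ?_
  · show k.Coprime (r ^ a)
    rw [Nat.coprime_iff_gcd_eq_one, hk1.gcd_eq]
    exact hu.pow_right a
  · show k.Coprime (Nat.card G / r ^ a)
    rw [Nat.coprime_iff_gcd_eq_one, hk2.gcd_eq]
    exact hv

include h in
/-- An exponent congruent to a class-preserving residue away from `r` and a congruence at `r`. -/
theorem apply_pow_of_modEq (h2 : Fintype.card (Cls h) = 2) {r u v : ℕ} (hr : r.Prime) (hrp : r ≠ p)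
    (hu : u.Coprime r) (hv : v.Coprime (Nat.card G / r ^ (Nat.card G).factorization r))
    {w : (ZMod p)ˣ} (hw : (v : ZMod p) = w) (hwe : w ∈ ex h)
    (hz : ∀ z ∈ Subgroup.center G,
      (orderOf z ∣ r ^ (Nat.card G).factorization r ∧ z ^ u = z) ∨
        (¬ r ∣ orderOf z ∧ z ^ v = z))
    (g : G) : ∃ k : ℕ, k.Coprime (Nat.card G) ∧ k ≡ u [MOD r ^ (Nat.card G).factorization r] ∧
      k ≡ v [MOD Nat.card G / r ^ (Nat.card G).factorization r] ∧
      (ζ : G → ℂ) (g ^ k) = (ζ : G → ℂ) g := by
  set a := (Nat.card G).factorization r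
  obtain ⟨k, hk, hk1, hk2⟩ := exists_exp G hr hu hv
  refine ⟨k, hk, hk1, hk2, apply_pow h h2 hk (u := w) ?_ hwe (fun z hz' => ?_) g⟩
  · rw [← hw, ZMod.natCast_eq_natCast_iff]
    refine hk2.of_dvd ?_
    have hpd := prime_dvd_card h
    rw [← Nat.ordProj_mul_ordCompl_eq_self (Nat.card G) r] at hpd
    refine ((Fact.out : p.Prime).dvd_mul.1 hpd).resolve_left fun h1 => ?_
    exact hrp ((Nat.prime_dvd_prime_iff_eq Fact.out hr).1 ((Fact.out : p.Prime).dvd_of_dvd_pow h1)).symm
  · rcases hz z hz' with ⟨h1, h3⟩ | ⟨h1, h3⟩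
    · exact (pow_eq_pow_iff_modEq.2 (hk1.of_dvd h1)).trans h3
    · refine (pow_eq_pow_iff_modEq.2 (hk2.of_dvd ?_)).trans h3
      have h4 := orderOf_dvd_natCard z
      rw [← Nat.ordProj_mul_ordCompl_eq_self (Nat.card G) r] at h4
      exact (((hr.coprime_iff_not_dvd.2 h1).symm).pow_right a).dvd_of_dvd_mul_left h4

end Cfsg.Agent.Lib.Small80.Core
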