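import Cfsg.Agent.Lib.Sixteen80.Mult
import Cfsg.Agent.Lib.Small80.Family

/-!
# The eigenvalues of an element of order `p` in a character of degree below `p - 1`

There are at least `(p - 1) / 2` of them, those other than `1` are simple, and if there are exactly
`(p - 1) / 2` then their exponents sum to zero and `1` is not among them.
-/

set_option autoImplicit false
set_option linter.unusedSectionVars false
set_option linter.style.haveILetI false

namespace Cfsg.Agent.Lib.Small80.Count

open Cfsg.Agent.Lib Cfsg.Agent.Lib.FirstPower Average Periods Cfsg.Agent.Lib.Characters.Basic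
open Family (pow_eq_one_of_order)
open Small80.Setup Small80.Spikes
open Cfsg.Agent.Lib.FeitSmall.Cyclotomy (negc)
open Sixteen80.Mult

attribute [local instance] BlocksChars5.Basic.irrFintype

universe u

variable {p : ℕ} [Fact p.Prime] {G : Type u} [Group G] [Finite G] {x : G}
  {ζ : Cfsg.IrrCharacter G}

open scoped Classical in
/-- The coordinates give the multiplicities. -/
theorem exists_base (h : Hyp p x ζ) :
    ∃ c₀ : ℕ, mlt p (ζ : G → ℂ) x 0 = c₀ ∧
      (∀ l : (ZMod p)ˣ,
        (mlt p (ζ : G → ℂ) x (l : ZMod p) : ℤ) = crd h ζ (QuotientGroup.mk l) + c₀) ∧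
      (∀ q, 0 ≤ crd h ζ q + c₀) ∧
      (Cfsg.charDegree (ζ : G → ℂ) : ℤ) =
        (c₀ : ℤ) + ∑ q, (Fintype.card (ex h) : ℤ) * (crd h ζ q + c₀) ∧
      ∑ a : ZMod p, (ζ : G → ℂ) (x ^ a.val) = (p : ℂ) * c₀ := by
  obtain ⟨c₀, hpos, hdeg, hsum⟩ := exists_degree h ζ
  set c : ZMod p → ℕ := fun l =>
    if hl : l = 0 then c₀ else (crd h ζ (QuotientGroup.mk (Units.mk0 l hl)) + c₀).toNat with hc
  have hc0 : c 0 = c₀ := by simp [hc]
  have hcl : ∀ l : (ZMod p)ˣ, (c l : ℤ) = crd h ζ (QuotientGroup.mk l) + c₀ := fun l => by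
    rw [hc]
    simp only [l.ne_zero, dite_false, Units.mk0_val]
    exact Int.toNat_of_nonneg (hpos _)
  have hval : ∀ z : ZMod p, (ζ : G → ℂ) (x ^ z.val) = ∑ l, (c l : ℂ) * chr p (l * z) := by
    intro z
    have hclC : ∀ l : (ZMod p)ˣ, (c l : ℂ) = (crd h ζ (QuotientGroup.mk l) : ℂ) + c₀ := fun l => by
      exact_mod_cast congrArg (Int.cast : ℤ → ℂ) (hcl l)
    rw [Consequences.sum_zmod_split, hc0, zero_mul, chr_zero, mul_one,
      ← Finset.sum_fiberwise Finset.univ (fun l : (ZMod p)ˣ => (QuotientGroup.mk l : Cls h))]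
    by_cases hz : z = 0
    · subst hz
      rw [ZMod.val_zero, pow_zero, apply_one_zeta]
      have h1 := congrArg (Int.cast : ℤ → ℂ) hdeg
      push_cast at h1
      rw [h1]
      congr 1
      refine Finset.sum_congr rfl fun q _ => ?_
      rw [Finset.sum_congr rfl (g := fun _ => (crd h ζ q : ℂ) + c₀) fun l hl => by
        rw [mul_zero, chr_zero, mul_one, hclC, (Finset.mem_filter.mp hl).2], Finset.sum_const,
        nsmul_eq_mul, card_fiber]
    · obtain ⟨u, rfl⟩ : ∃ u : (ZMod p)ˣ, z = u := ⟨Units.mk0 z hz, rfl⟩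
      rw [Finset.sum_congr rfl fun q _ => show
        (∑ l ∈ Finset.univ.filter fun l : (ZMod p)ˣ => (QuotientGroup.mk l : Cls h) = q,
          (c (l : ZMod p) : ℂ) * chr p ((l : ZMod p) * (u : ZMod p))) =
          ((crd h ζ q : ℂ) + c₀) * eta (ex h) (q * QuotientGroup.mk u) by
        rw [← FeitSmall.Cyclotomy.eta_mul_unit, Finset.mul_sum]
        exact Finset.sum_congr rfl fun l hl => by rw [hclC, (Finset.mem_filter.mp hl).2]]
      simp only [add_mul, Finset.sum_add_distrib, ← Finset.mul_sum, sum_eta_shift, ← crd_val]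
      ring
  refine ⟨c₀, ?_, fun l => ?_, hpos, hdeg, hsum⟩
  · rw [mlt_eq hval, hc0]
  · rw [mlt_eq hval, hcl]

open scoped Classical in
/-- The eigenvalues other than `1`, as units. -/
theorem card_units (h : Hyp p x ζ) (K : Finset (Cls h)) :
    (Finset.univ.filter fun l : (ZMod p)ˣ => (QuotientGroup.mk l : Cls h) ∈ K).card =
      K.card * Fintype.card (ex h) := by
  have hmaps : Set.MapsTo (fun l : (ZMod p)ˣ => (QuotientGroup.mk l : Cls h))
      ↑(Finset.univ.filter fun l : (ZMod p)ˣ => (QuotientGroup.mk l : Cls h) ∈ K) ↑K :=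
    fun l hl => (Finset.mem_filter.1 (Finset.mem_coe.1 hl)).2
  rw [Finset.card_eq_sum_card_fiberwise hmaps]
  rw [Finset.sum_congr rfl fun q hq => show _ = Fintype.card (ex h) by
    rw [Finset.filter_filter, ← card_fiber (ex h) q]
    congr 1
    ext l
    simp only [Finset.mem_filter, Finset.mem_univ, true_and, and_iff_right_iff_imp]
    intro e
    rw [e]
    exact hq, Finset.sum_const, smul_eq_mul]

open scoped Classical in
/-- The eigenvalues. -/
theorem facts (h : Hyp p x ζ) :
    p ≤ 2 * (supp p (ζ : G → ℂ) x).card + 1 ∧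
      (∀ l, l ≠ 0 → mlt p (ζ : G → ℂ) x l ≤ 1) ∧
      (2 * (supp p (ζ : G → ℂ) x).card + 1 = p →
        ∑ l ∈ supp p (ζ : G → ℂ) x, l = 0 ∧ (0 : ZMod p) ∉ supp p (ζ : G → ℂ) x) := by
  obtain ⟨c₀, h0, hl, hpos, hdeg, hsum⟩ := exists_base h
  set K : Finset (Cls h) := Finset.univ.filter fun q => crd h ζ q + (c₀ : ℤ) ≠ 0 with hK
  set U : Finset (ZMod p) :=
    (Finset.univ.filter fun l : (ZMod p)ˣ => (QuotientGroup.mk l : Cls h) ∈ K).map
      ⟨fun l : (ZMod p)ˣ => (l : ZMod p), fun _ _ e => Units.ext e⟩ with hU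
  have hU0 : (0 : ZMod p) ∉ U := fun hm => by
    obtain ⟨l, -, hl0⟩ := Finset.mem_map.1 hm
    exact l.ne_zero hl0
  have hmemU : ∀ l : (ZMod p)ˣ, (l : ZMod p) ∈ U ↔ (l : ZMod p) ∈ supp p (ζ : G → ℂ) x := by
    intro l
    rw [mem_supp, hU, Finset.mem_map]
    constructor
    · rintro ⟨l', hl', e⟩
      obtain rfl : l' = l := Units.ext e
      simp only [hK, Finset.mem_filter, Finset.mem_univ, true_and] at hl'
      intro h1
      exact hl' (by rw [← hl, h1, Nat.cast_zero])
    · intro hm
      refine ⟨l, ?_, rfl⟩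
      simp only [hK, Finset.mem_filter, Finset.mem_univ, true_and]
      rw [← hl]
      exact_mod_cast hm
  have hsupp : supp p (ζ : G → ℂ) x = if c₀ = 0 then U else insert 0 U := by
    ext l
    by_cases hl0 : l = 0
    · subst hl0
      rw [mem_supp, h0]
      split_ifs with hc <;> simp [hc, hU0]
    · rw [show l = ((Units.mk0 l hl0 : (ZMod p)ˣ) : ZMod p) from rfl, ← hmemU]
      split_ifs <;> simp [hl0]
  have hcard : (supp p (ζ : G → ℂ) x).card =
      K.card * Fintype.card (ex h) + if c₀ = 0 then 0 else 1 := by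
    rw [hsupp]
    split_ifs with hc
    · rw [hU, Finset.card_map, card_units, add_zero]
    · rw [Finset.card_insert_of_notMem hU0, hU, Finset.card_map, card_units]
  have hKne : K.Nonempty := by
    rw [Finset.nonempty_iff_ne_empty]
    intro he
    refine not_const h fun q q' => ?_
    have h1 : ∀ q, crd h ζ q + (c₀ : ℤ) = 0 := fun q => by
      by_contra hne
      exact (Finset.eq_empty_iff_forall_notMem.1 he q) (by simp [hK, hne])
    linarith [h1 q, h1 q']
  have hte := card_mul h
  rcases (two_le h).lt_or_eq with h3 | h2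
  · obtain ⟨κ₀, hκ, hde, hfix⟩ := exists_value h h3
    have hc1 : c₀ = 1 := by
      rw [hsum] at hfix
      exact_mod_cast (mul_eq_left₀ (Nat.cast_ne_zero.2 (Fact.out : p.Prime).ne_zero)).1 hfix
    have hKe : K = Finset.univ.erase κ₀ := by
      ext q
      simp only [hK, hc1, hκ, Finset.mem_filter, Finset.mem_univ, true_and, Finset.mem_erase,
        and_true]
      split_ifs with e <;> simp [e]
    rw [hc1, if_neg one_ne_zero, hKe, Finset.card_erase_of_mem (Finset.mem_univ _),
      Finset.card_univ] at hcard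
    obtain ⟨t', ht'⟩ : ∃ t', Fintype.card (Cls h) = t' + 3 :=
      ⟨Fintype.card (Cls h) - 3, by omega⟩
    rw [ht'] at hcard hte
    have hle := le_deg h
    have hp1 := (Fact.out : p.Prime).one_lt
    have he' : (t' + 3 - 1) * Fintype.card (ex h) + Fintype.card (ex h) = p - 1 := by
      rw [show t' + 3 - 1 = t' + 2 by omega, ← hte]
      ring
    refine ⟨by omega, fun l hl0 => ?_, fun h9 => ?_⟩
    · have h1 := hl (Units.mk0 l hl0)
      rw [Units.val_mk0, hc1, hκ] at h1
      push_cast at h1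
      split_ifs at h1 <;> omega
    exfalso
    have h3e : 3 * Fintype.card (ex h) ≤ (t' + 3) * Fintype.card (ex h) :=
      Nat.mul_le_mul_right _ (by omega)
    omega
  · rw [← h2] at hte
    have hk : Fintype.card (ex h) ≤ K.card * Fintype.card (ex h) :=
      Nat.le_mul_of_pos_left _ hKne.card_pos
    have hp5 := h.lt
    refine ⟨by omega, fun l hl0 => ?_, fun h9 => ?_⟩
    · have h1 := hl (Units.mk0 l hl0)
      rw [Units.val_mk0] at h1
      have hle := Finset.single_le_sum
        (f := fun q => (Fintype.card (ex h) : ℤ) * (crd h ζ q + c₀))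
        (fun q _ => mul_nonneg (Int.natCast_nonneg _) (hpos q))
        (Finset.mem_univ (QuotientGroup.mk (Units.mk0 l hl0) : Cls h))
      have he : ((p : ℤ) - 1) = 2 * Fintype.card (ex h) := by omega
      have h16' : (Cfsg.charDegree (ζ : G → ℂ) : ℤ) + 1 < p := by exact_mod_cast h.deg
      rw [← h1] at hle
      by_contra hcon
      have h2 : (2 : ℤ) ≤ mlt p (ζ : G → ℂ) x l := by
        exact_mod_cast (by omega : 2 ≤ mlt p (ζ : G → ℂ) x l)
      nlinarith [Int.natCast_nonneg c₀, Int.natCast_nonneg (Fintype.card (ex h))]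
    have he9 : (supp p (ζ : G → ℂ) x).card = Fintype.card (ex h) := by omega
    rw [he9] at hcard
    have hc0 : c₀ = 0 := by
      by_contra hne
      rw [if_neg hne] at hcard
      omega
    rw [if_pos hc0, add_zero] at hcard
    obtain ⟨κ, hκ⟩ := Finset.card_eq_one.1 (show K.card = 1 from
      (mul_eq_right₀ Fintype.card_ne_zero).1 hcard.symm)
    rw [hsupp, if_pos hc0]
    constructor
    · obtain ⟨⟨v, hv⟩, hv1⟩ := Fintype.exists_ne_of_one_lt_card
        (show 1 < Fintype.card (ex h) by omega) (1 : ex h)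
      have hv1' : (v : ZMod p) - 1 ≠ 0 := fun e => hv1 (Subtype.ext (Units.ext (sub_eq_zero.1 e)))
      refine (mul_eq_zero.1 (?_ : ((v : ZMod p) - 1) * ∑ l ∈ U, l = 0)).resolve_left hv1'
      rw [sub_mul, one_mul, sub_eq_zero, Finset.mul_sum, hU, Finset.sum_map, Finset.sum_map]
      refine Finset.sum_equiv (Equiv.mulLeft v) (fun l => ?_) fun l _ => ?_
      · simp only [Finset.mem_filter, Finset.mem_univ, true_and, Equiv.coe_mulLeft,
          QuotientGroup.mk_mul, (QuotientGroup.eq_one_iff v).2 hv, one_mul]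
      · exact (Units.val_mul v l).symm
    · exact hU0

end Cfsg.Agent.Lib.Small80.Count
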