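import Cfsg.Agent.Lib.Mitchell96.TraceForms
import Mathlib

/-!
# Descent to the field with two elements

A finite group of matrices in characteristic two spanning all matrices, with traces 0 and 1 and
entries that are roots of unity or zero, is conjugate into the matrices over the prime field.
-/

set_option autoImplicit false
set_option linter.unusedSectionVars false
set_option linter.style.haveILetI false

namespace Cfsg.Agent.Lib.Small80.Descent

open Cfsg.Geo Cfsg.Agent.Lib.PrimeDim.Basic
open scoped Matrix MatrixGroups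

universe u

/-- A spanning group is absolutely irreducible. -/
theorem abs_of_span {ι : Type} [Fintype ι] [DecidableEq ι] {F : Type} [Field F]
    {P : Subgroup (GL ι F)} (hspan : Submodule.span F (matrixSet P) = ⊤) :
    ActsAbsolutelyIrreducibly (matrixSet P) := by
  have hall : ∀ X : Matrix ι ι F, X ∈ Submodule.span F (matrixSet P) := fun X => hspan ▸ Submodule.mem_top
  refine ⟨irred_iff.2 fun W hW => ?_, fun X hX => ?_⟩
  · by_cases h0 : W = ⊥
    · exact Or.inl h0
    right
    obtain ⟨v, hv, hv0⟩ := Submodule.exists_mem_ne_zero_of_ne_bot h0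
    obtain ⟨i, hi⟩ := Function.ne_iff.1 hv0
    have hstab : ∀ X : Matrix ι ι F, ∀ w ∈ W, X *ᵥ w ∈ W := by
      intro X
      induction hall X using Submodule.span_induction with
      | mem a ha => obtain ⟨g, hg, rfl⟩ := mem_matrixSet.mp ha; exact hW g hg
      | zero => intro w _; rw [Matrix.zero_mulVec]; exact zero_mem W
      | add a b _ _ ha hb => intro w hw; rw [Matrix.add_mulVec]; exact add_mem (ha w hw) (hb w hw)
      | smul c a _ ha => intro w hw; rw [Matrix.smul_mulVec]; exact W.smul_mem c (ha w hw)
    rw [eq_top_iff]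
    intro w _
    have h := hstab (Matrix.vecMulVec w (Pi.single i (v i)⁻¹)) v hv
    have e : Matrix.vecMulVec w (Pi.single i (v i)⁻¹) *ᵥ v = w := by
      funext r
      have hi' : v i ≠ 0 := hi
      simp [Matrix.mulVec, Matrix.vecMulVec, dotProduct, Pi.single_apply, mul_assoc, hi']
    rwa [e] at h
  · have hcomm : ∀ Y : Matrix ι ι F, X * Y = Y * X := by
      intro Y
      induction hall Y using Submodule.span_induction with
      | mem a ha => exact hX a ha
      | zero => rw [mul_zero, zero_mul]
      | add a b _ _ ha hb => rw [mul_add, add_mul, ha, hb]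
      | smul c a _ ha => rw [Matrix.mul_smul, Matrix.smul_mul, ha]
    obtain ⟨c, hc⟩ := Matrix.mem_range_scalar_of_commute_single (M := X)
      (fun i j _ => (hcomm (Matrix.single i j 1)).symm)
    exact ⟨c, by rw [← hc]; ext i j; simp [Matrix.diagonal_apply, Matrix.one_apply]⟩

set_option maxHeartbeats 1000000 in
/-- Descent to the field with two elements. -/
theorem exists_binary {K : Type} [Field K] [CharP K 2]
    (htor : ∀ a : K, a ≠ 0 → ∃ m : ℕ, 0 < m ∧ a ^ m = 1) {G : Type u} [Group G] [Finite G] {n : ℕ}
    (hn : 0 < n) (B : G →* Matrix (Fin n) (Fin n) K)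
    (hfull : Submodule.span K (Set.range B) = ⊤)
    (htr : ∀ g, (B g).trace = 0 ∨ (B g).trace = 1) :
    ∃ q : G →* GL (Fin n) (ZMod 2), ∀ g, q g = 1 ↔ B g = 1 := by
  classical
  haveI : Fact (Nat.Prime 2) := ⟨Nat.prime_two⟩
  letI := ZMod.algebra K 2
  haveI : Nonempty (Fin n) := ⟨⟨0, hn⟩⟩
  let S : Set K := Set.range fun t : G × Fin n × Fin n => B t.1 t.2.1 t.2.2
  have hint : ∀ a ∈ S, IsIntegral (ZMod 2) a := fun a _ => by
    by_cases ha : a = 0
    · rw [ha]; exact isIntegral_zero
    · obtain ⟨m, hm, h⟩ := htor a ha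
      exact IsIntegral.of_pow hm (h ▸ isIntegral_one)
  let L := IntermediateField.adjoin (ZMod 2) S
  haveI : Finite S := (Set.finite_range _).to_subtype
  haveI : FiniteDimensional (ZMod 2) L := IntermediateField.finiteDimensional_adjoin hint
  haveI : Finite L := Module.finite_of_finite (ZMod 2)
  haveI := Fintype.ofFinite L
  let iL : L →+* K := L.val.toRingHom
  have hiL : Function.Injective iL := iL.injective
  haveI : CharP L 2 := (iL.charP_iff hiL 2).2 inferInstance
  have hmap : Function.Injective fun X : Matrix (Fin n) (Fin n) L => X.map iL :=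
    fun X Y e => Matrix.map_injective hiL e
  let C : G → Matrix (Fin n) (Fin n) L := fun g => Matrix.of fun i j =>
    ⟨B g i j, IntermediateField.subset_adjoin (ZMod 2) S ⟨(g, i, j), rfl⟩⟩
  have hC : ∀ g, (C g).map iL = B g := fun g => by ext i j; rfl
  let Ch : G →* Matrix (Fin n) (Fin n) L :=
    { toFun := C
      map_one' := hmap (by simp only [hC, map_one, Matrix.map_one _ (map_zero iL) (map_one iL)])
      map_mul' := fun g h => hmap (by simp only [hC, map_mul, Matrix.map_mul]) }
  let f : G →* GL (Fin n) L := Ch.toHomUnits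
  have hf : ∀ g, ((f g : GL (Fin n) L) : Matrix (Fin n) (Fin n) L) = C g := fun g => rfl
  have hspan : Submodule.span L (matrixSet f.range) = ⊤ := by
    set W := Submodule.span L (matrixSet f.range) with hW
    let b := Module.finBasis L W
    have hle : (⊤ : Submodule K (Matrix (Fin n) (Fin n) K)) ≤
        Submodule.span K (Set.range fun i => (b i : Matrix (Fin n) (Fin n) L).map iL) := by
      rw [← hfull, Submodule.span_le]
      rintro _ ⟨g, rfl⟩
      have hm : C g ∈ W := Submodule.subset_span (mem_matrixSet.mpr ⟨f g, ⟨g, rfl⟩, hf g⟩)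
      have h1 : C g = ∑ i, b.repr ⟨C g, hm⟩ i • (b i : Matrix (Fin n) (Fin n) L) := by
        have h0 := congrArg (Subtype.val (p := (· ∈ W))) (b.sum_repr ⟨C g, hm⟩)
        rw [Submodule.coe_sum] at h0
        exact h0.symm
      rw [SetLike.mem_coe, ← hC, h1,
        show (∑ i, b.repr ⟨C g, hm⟩ i • (b i : Matrix (Fin n) (Fin n) L)).map iL =
        ∑ i, iL (b.repr ⟨C g, hm⟩ i) • (b i : Matrix (Fin n) (Fin n) L).map iL from ?_]
      · exact Submodule.sum_mem _ fun i _ => Submodule.smul_mem _ _ (Submodule.subset_span ⟨i, rfl⟩)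
      · ext r c
        simp [Matrix.sum_apply, map_sum]
    refine Submodule.eq_top_of_finrank_eq (le_antisymm (Submodule.finrank_le W) ?_)
    have h2 := (finrank_range_le_card (R := K)
      fun i => (b i : Matrix (Fin n) (Fin n) L).map iL)
    rw [Set.finrank, eq_top_iff.2 hle, finrank_top, Module.finrank_matrix] at h2
    rw [Module.finrank_matrix]
    simpa [Module.finrank_self] using h2
  let ψ : ZMod 2 →+* L := ZMod.castHom (dvd_refl 2) L
  have htr' : ∀ y ∈ f.range, (y : GL (Fin n) L).val.trace ∈ ψ.fieldRange := by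
    rintro _ ⟨g, rfl⟩
    have h1 : iL (C g).trace = (B g).trace := by
      rw [← hC g]
      simp [Matrix.trace]
    rw [hf]
    rcases htr g with e | e <;> rw [e] at h1
    · rw [hiL (h1.trans (map_zero iL).symm)]; exact zero_mem _
    · rw [hiL (h1.trans (map_one iL).symm)]; exact one_mem _
  obtain ⟨U, hU⟩ :=
    Mitchell96.realisable_of_trace (abs_of_span hspan) ψ.fieldRange htr'
  let D : G → Matrix (Fin n) (Fin n) L := fun g =>
    ((U * f g * U⁻¹ : GL (Fin n) L) : Matrix (Fin n) (Fin n) L)
  have hDe : ∀ g i j, ∃ a, ψ a = D g i j := fun g i j =>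
    RingHom.mem_fieldRange.1 (hU _ (mem_matrixSet.mpr ⟨f g, ⟨g, rfl⟩, rfl⟩) i j)
  choose a ha using hDe
  have hψ : Function.Injective fun X : Matrix (Fin n) (Fin n) (ZMod 2) => X.map ψ :=
    fun X Y e => Matrix.map_injective ψ.injective e
  let E : G → Matrix (Fin n) (Fin n) (ZMod 2) := fun g => Matrix.of fun i j => a g i j
  have hE : ∀ g, (E g).map ψ = D g := fun g => Matrix.ext fun i j => ha g i j
  let Eh : G →* Matrix (Fin n) (Fin n) (ZMod 2) :=
    { toFun := E
      map_one' := hψ (by
        simp only [hE, D, map_one, mul_one, mul_inv_cancel, Units.val_one,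
          Matrix.map_one _ (map_zero ψ) (map_one ψ)])
      map_mul' := fun g h => hψ (by
        simp only [hE, D, Matrix.map_mul, ← Units.val_mul]
        congr 1
        rw [map_mul]
        group) }
  refine ⟨Eh.toHomUnits, fun g => ?_⟩
  have e1 : Eh.toHomUnits g = 1 ↔ f g = 1 := by
    constructor
    · intro e
      have e2 : E g = 1 := congrArg Units.val e
      have e3 : U * f g * U⁻¹ = 1 := Units.ext (by
        show D g = _
        rw [← hE, e2, Matrix.map_one _ (map_zero ψ) (map_one ψ), Units.val_one])
      exact conj_eq_one_iff.1 e3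
    · intro e
      refine Units.ext (hψ ?_)
      show (E g).map ψ = _
      simp [hE, D, e]
  rw [e1, Units.ext_iff, hf, Units.val_one]
  constructor
  · intro e; rw [← hC g, e, Matrix.map_one _ (map_zero iL) (map_one iL)]
  · intro e; exact hmap (by simp only [hC, e, Matrix.map_one _ (map_zero iL) (map_one iL)])

end Cfsg.Agent.Lib.Small80.Descent
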