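import Cfsg.Agent.Lib.Small80.Family

/-!
# With two classes the group is its core times the centre
-/

set_option autoImplicit false
set_option linter.unusedSectionVars false
set_option linter.style.haveILetI false

namespace Cfsg.Agent.Lib.Small80.Split

open Cfsg.Agent.Lib Cfsg.Agent.Lib.FirstPower Average Periods Cfsg.Agent.Lib.Characters.Basic
open Family (pow_eq_one_of_order)
open Small80.Setup Small80.Spikes
open Cfsg.Agent.Lib.DegSubTwo.Reduction (gen_core nn_core core' exists_conj_eq)

attribute [local instance] BlocksChars5.Basic.irrFintype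

universe u

variable {p : ℕ} [Fact p.Prime] {G : Type u} [Group G] [Finite G] {x : G}
  {ζ : Cfsg.IrrCharacter G}

/-- The hypotheses on the core. -/
theorem exists_core (h : Hyp p x ζ) : ∃ (y : core' x) (φ : Cfsg.IrrCharacter (core' x)),
    (y : G) = x ∧ Hyp p y φ ∧ Subgroup.normalClosure ({y} : Set (core' x)) = ⊤ ∧
      Cfsg.charDegree (φ : core' x → ℂ) = Cfsg.charDegree (ζ : G → ℂ) := by
  have hxH : x ∈ core' x := Subgroup.subset_normalClosure rfl
  let φ : Cfsg.IrrCharacter (core' x) := ⟨_, restrict_irr h⟩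
  have hdeg : Cfsg.charDegree (φ : core' x → ℂ) = Cfsg.charDegree (ζ : G → ℂ) :=
    BlocksChars5.Basic.charDegree_congr rfl
  refine ⟨⟨x, hxH⟩, φ, rfl, ⟨h.lt, ?_, ?_, nn_core h.ord h.sq h.nn, hdeg ▸ h.deg,
    fun a ha => Subtype.ext (h.faith _ ha)⟩, gen_core h.ord h.sq, hdeg⟩
  · rw [← Subgroup.orderOf_coe]; exact h.ord
  · exact fun h' => h.sq (h'.trans (Subgroup.card_subgroup_dvd_card (core' x)))

/-- The number of classes for small degrees. -/
theorem card_cls (h : Hyp p x ζ) (hd : p = 5 ∨ (p = 7 ∧ Cfsg.charDegree (ζ : G → ℂ) ≤ 4)) :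
    Fintype.card (Cls h) = 2 ∧ 2 * Fintype.card (ex h) + 1 = p := by
  have h2 : Fintype.card (Cls h) = 2 := by
    have h1 := two_le h
    by_contra hne
    obtain ⟨-, -, hdeg, -⟩ := exists_value h (by omega)
    have hte := card_mul h
    have := h.deg
    have h3 : 3 * Fintype.card (ex h) ≤ Fintype.card (Cls h) * Fintype.card (ex h) :=
      Nat.mul_le_mul_right _ (by omega)
    omega
  refine ⟨h2, ?_⟩
  have hte := card_mul h
  rw [h2] at hte
  have := h.lt
  have := Nat.odd_iff.1 ((Fact.out : p.Prime).odd_of_ne_two (by omega))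
  omega

/-- The central quotients agree. -/
theorem quot_equiv (h : Hyp p x ζ) {y : core' x} {φ : Cfsg.IrrCharacter (core' x)}
    (hy : (y : G) = x) (hyH : Hyp p y φ)
    (hcard : Fintype.card (ex hyH) = Fintype.card (ex h)) :
    Nonempty ((G ⧸ Subgroup.center G) ≃* (core' x ⧸ Subgroup.center (core' x))) := by
  classical
  have hxH : x ∈ core' x := Subgroup.subset_normalClosure rfl
  have hE : ex hyH = ex h := by
    refine Subgroup.eq_of_le_of_card_ge (fun u hu => ?_) ?_
    · obtain ⟨a, ha⟩ := isConj_iff.1 ((mem_autE (pow_eq_one_of_order hyH.ord)).1 hu)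
      refine (mem_autE (pow_eq_one_of_order h.ord)).2 (isConj_iff.2 ⟨(a : G), ?_⟩)
      have h1 := congrArg Subtype.val ha
      simp only [Subgroup.coe_mul, InvMemClass.coe_inv, SubmonoidClass.coe_pow, hy] at h1
      exact h1
    · rw [Nat.card_eq_fintype_card, Nat.card_eq_fintype_card, hcard]
  have hsplit : ∀ g : G, ∃ a : core' x, ∃ z ∈ Subgroup.center G, g = a * z := by
    intro g
    obtain ⟨-, b, hb, hbx⟩ := exists_conj_eq h.ord h.sq (core' x) hxH (g * x * g⁻¹)
      (by rw [← MulAut.conj_apply, MulEquiv.orderOf_eq, h.ord])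
    obtain ⟨j, hj⟩ := (mem_zpowers_iff_val (pow_eq_one_of_order h.ord)).1 hbx
    have hj0 : j ≠ 0 := fun h0 => by
      rw [h0, ZMod.val_zero, pow_zero, eq_comm, show b * (g * x * g⁻¹) * b⁻¹ =
        b * g * x * (b * g)⁻¹ by group, conj_eq_one_iff] at hj
      have := h.ord
      rw [hj, orderOf_one] at this
      exact (Fact.out : p.Prime).one_lt.ne this
    have hu : (Units.mk0 j hj0) ∈ ex hyH := by
      rw [hE, mem_autE, Units.val_mk0]
      exact isConj_iff.2 ⟨b * g, by rw [hj]; group⟩
    obtain ⟨a, ha⟩ := isConj_iff.1 ((mem_autE (pow_eq_one_of_order hyH.ord)).1 hu)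
    have ha' : (a : G) * x * (a : G)⁻¹ = x ^ j.val := by
      have h1 := congrArg Subtype.val ha
      simp only [Subgroup.coe_mul, InvMemClass.coe_inv, SubmonoidClass.coe_pow, hy,
        Units.val_mk0] at h1
      exact h1
    have hc : (a : G)⁻¹ * (b * g) ∈ Subgroup.centralizer ({x} : Set G) := by
      rw [Core.commute_iff_conj, show (a : G)⁻¹ * (b * g) * x * ((a : G)⁻¹ * (b * g))⁻¹ =
        (a : G)⁻¹ * (b * (g * x * g⁻¹) * b⁻¹) * a by group, ← hj, ← ha']
      group
    obtain ⟨i, z, hz⟩ := exists_decomp h.ord h.sq (isVPart_center h) hc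
    refine ⟨⟨b⁻¹, (core' x).inv_mem hb⟩ * a * y ^ i.val, z, z.2, ?_⟩
    simp only [Subgroup.coe_mul, SubmonoidClass.coe_pow, hy]
    rw [mul_assoc, mul_assoc, ← hz]
    group
  let f : core' x →* G ⧸ Subgroup.center G := (QuotientGroup.mk' _).comp (core' x).subtype
  have hf : Function.Surjective f := by
    intro q
    obtain ⟨g, rfl⟩ := QuotientGroup.mk_surjective q
    obtain ⟨a, z, hz, rfl⟩ := hsplit g
    refine ⟨a, ?_⟩
    show ((a : G) : G ⧸ Subgroup.center G) = _
    rw [QuotientGroup.mk_mul, (QuotientGroup.eq_one_iff z).2 hz, mul_one]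
  have hfker : f.ker = Subgroup.center (core' x) := by
    ext a
    show ((a : G) : G ⧸ Subgroup.center G) = 1 ↔ _
    rw [QuotientGroup.eq_one_iff]
    constructor
    · intro ha
      rw [Subgroup.mem_center_iff]
      exact fun b => Subtype.ext (Subgroup.mem_center_iff.1 ha b)
    · intro ha
      refine mem_center_of_core h fun b hb => ?_
      exact (congrArg Subtype.val (Subgroup.mem_center_iff.1 ha ⟨b, hb⟩)).symm
  exact ⟨((QuotientGroup.quotientKerEquivOfSurjective f hf).symm.trans
    (QuotientGroup.quotientMulEquivOfEq hfker))⟩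

end Cfsg.Agent.Lib.Small80.Split
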