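import Cfsg.Agent.Lib.Small80.Core
import Cfsg.Agent.Lib.Small80.Split
import Cfsg.Agent.Lib.BC77.SchurBound
import Cfsg.Agent.Lib.SmallSimple.Known
import Cfsg.Agent.Lib.SmallGroups.RecogSmall
import Cfsg.Agent.S0497

/-!
# Linear groups of degree three and the prime five

Modulo the centre the group is `A₅` or `A₆`: Schur's bound on the Sylow subgroups for 2 and 3
leaves these two orders.
-/

set_option autoImplicit false
set_option linter.unusedSectionVars false
set_option linter.style.haveILetI false

namespace Cfsg.Agent.Lib.Small80.Five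

open Cfsg.Agent.Lib Cfsg.Agent.Lib.FirstPower Average Periods Cfsg.Agent.Lib.Characters.Basic
open Small80.Setup Small80.Spikes

attribute [local instance] BlocksChars5.Basic.irrFintype

universe u

variable [Fact (Nat.Prime 5)] {G : Type u} [Group G] [Finite G] {x : G}
  {ζ : Cfsg.IrrCharacter G}

variable (h : Hyp 5 x ζ) (hgen : Subgroup.normalClosure ({x} : Set G) = ⊤)
  (hd : Cfsg.charDegree (ζ : G → ℂ) = 3)

include h hgen hd in
theorem orderOf_center {z : G} (hz : z ∈ Subgroup.center G) :
    z = 1 ∨ orderOf z = 3 := by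
  have h1 := Core.pow_deg h hgen hz
  rw [hd] at h1
  rcases (Nat.dvd_prime Nat.prime_three).1 (orderOf_dvd_of_pow_eq_one h1) with h2 | h2
  · exact Or.inl (orderOf_eq_one_iff.1 h2)
  · exact Or.inr h2

include h hgen hd in
theorem rational_two {g : G} (hg : g ^ 2 ^ (Nat.card G).factorization 2 = 1) {u : ℕ}
    (hu : u.Coprime 2) : (ζ : G → ℂ) (g ^ u) = (ζ : G → ℂ) g := by
  obtain ⟨k, -, hk, -, hval⟩ := Core.apply_pow_of_modEq h (Split.card_cls h (Or.inl rfl)).1
    Nat.prime_two (by norm_num) hu (Nat.coprime_one_left _) (w := 1) (by simp) (one_mem _)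
    (fun z hz => Or.inr ⟨by
      rcases orderOf_center h hgen hd hz with rfl | h2
      · rw [orderOf_one]; norm_num
      · rw [h2]; norm_num, pow_one z⟩) g
  rwa [pow_eq_pow_iff_modEq.2 (hk.of_dvd (orderOf_dvd_of_pow_eq_one hg))] at hval

include h hgen hd in
theorem rational_three {g : G} (hg : g ^ 3 ^ (Nat.card G).factorization 3 = 1) {u : ℕ}
    (hu : u % 3 = 1) : (ζ : G → ℂ) (g ^ u) = (ζ : G → ℂ) g := by
  have huc : u.Coprime 3 := Nat.coprime_comm.1 ((Nat.prime_three.coprime_iff_not_dvd).2 (by omega))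
  obtain ⟨k, -, hk, -, hval⟩ := Core.apply_pow_of_modEq h (Split.card_cls h (Or.inl rfl)).1
    Nat.prime_three (by norm_num) huc (Nat.coprime_one_left _) (w := 1) (by simp) (one_mem _)
    (fun z hz => by
      rcases orderOf_center h hgen hd hz with rfl | h2
      · exact Or.inr ⟨by rw [orderOf_one]; norm_num, pow_one 1⟩
      · refine Or.inl ⟨?_, ?_⟩
        · rw [h2]
          have h5 := (Nat.prime_three.dvd_iff_one_le_factorization Nat.card_pos.ne').1
            (h2 ▸ orderOf_dvd_natCard z)
          exact dvd_pow_self 3 (by omega)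
        · conv_rhs => rw [← pow_one z]
          rw [pow_eq_pow_iff_modEq, h2, Nat.ModEq, hu]) g
  rwa [pow_eq_pow_iff_modEq.2 (hk.of_dvd (orderOf_dvd_of_pow_eq_one hg))] at hval

include h hgen hd in
theorem card_two_le : (Nat.card G).factorization 2 ≤ 4 := by
  obtain ⟨R⟩ := (inferInstance : Nonempty (Sylow 2 G))
  haveI : Fact (Nat.Prime 2) := ⟨Nat.prime_two⟩
  have ha := R.card_eq_multiplicity
  have hb := BC77.SchurBound.pgroup_bound (p := 2) R.2
    (isCharacter_comp (R : Subgroup G).subtype (isCharacter_irr ζ))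
    (fun g hg => Subtype.ext (h.faith _ (by simpa using hg)))
    (fun u g hu => by
      show (ζ : G → ℂ) ((g ^ u : (R : Subgroup G)) : G) = (ζ : G → ℂ) (g : G)
      rw [SubgroupClass.coe_pow]
      refine rational_two h hgen hd ?_ hu
      rw [← ha, ← SubgroupClass.coe_pow, pow_card_eq_one', OneMemClass.coe_one])
    (n := 3) (by
      show (ζ : G → ℂ) ((1 : (R : Subgroup G)) : G) = (3 : ℕ)
      rw [OneMemClass.coe_one, apply_one_zeta, hd]) ha
  exact hb.trans (by decide)

include h hgen hd in
theorem card_three_le : (Nat.card G).factorization 3 ≤ 4 := by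
  obtain ⟨R⟩ := (inferInstance : Nonempty (Sylow 3 G))
  haveI : Fact (Nat.Prime 3) := ⟨Nat.prime_three⟩
  have ha := R.card_eq_multiplicity
  have hF : Cfsg.IsCharacter G ((ζ : G → ℂ) + fun g => (starRingEnd ℂ) ((ζ : G → ℂ) g)) :=
    isCharacter_add (isCharacter_irr ζ) (isCharacter_conj (isCharacter_irr ζ))
  have hb := BC77.SchurBound.pgroup_bound (p := 3) R.2
    (isCharacter_comp (R : Subgroup G).subtype hF)
    (fun g hg => by
      simp only [Function.comp_apply, Pi.add_apply, Subgroup.coe_subtype, OneMemClass.coe_one,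
        apply_one_zeta, hd] at hg
      refine Subtype.ext (h.faith _ ?_)
      have h1 := norm_apply_le (isCharacter_irr ζ) (g : G)
      rw [apply_one_zeta, hd, Complex.norm_natCast] at h1
      have h2 : ((ζ : G → ℂ) (g : G)).re = 3 := by
        have h3 := congrArg Complex.re hg
        simp at h3
        linarith
      have h4 : ((ζ : G → ℂ) (g : G)).im = 0 := by
        have h3 := pow_le_pow_left₀ (norm_nonneg _) h1 2
        rw [Complex.sq_norm, Complex.normSq_apply, h2] at h3
        push_cast at h3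
        nlinarith
      rw [apply_one_zeta, hd]
      apply Complex.ext <;> simp [h2, h4])
    (fun u g hu => by
      show (ζ : G → ℂ) ((g ^ u : (R : Subgroup G)) : G) +
          (starRingEnd ℂ) ((ζ : G → ℂ) ((g ^ u : (R : Subgroup G)) : G)) =
        (ζ : G → ℂ) (g : G) + (starRingEnd ℂ) ((ζ : G → ℂ) (g : G))
      rw [SubgroupClass.coe_pow]
      have hgp : (g : G) ^ 3 ^ (Nat.card G).factorization 3 = 1 := by
        rw [← ha, ← SubgroupClass.coe_pow, pow_card_eq_one', OneMemClass.coe_one]
      rcases (by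
        have h3 : u % 3 ≠ 0 := fun h0 => by
          have h4 := Nat.eq_one_of_dvd_coprimes hu (Nat.dvd_of_mod_eq_zero h0) (dvd_refl 3)
          omega
        omega : u % 3 = 1 ∨ u % 3 = 2) with h3 | h3
      · rw [rational_three h hgen hd hgp h3]
      · set N := 3 ^ (Nat.card G).factorization 3 with hN
        by_cases h0 : (Nat.card G).factorization 3 = 0
        · rw [hN, h0, pow_zero, pow_one] at hgp
          rw [hgp, one_pow]
        have h3N : 3 ∣ N := dvd_pow_self 3 h0
        have hN1 : 1 ≤ N := Nat.one_le_pow _ _ (by norm_num)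
        have hu2 : u * (N - 1) % 3 = 1 := by
          have : (N - 1) % 3 = 2 := by omega
          rw [Nat.mul_mod, h3, this]
        have hinv : (g : G) ^ (u * (N - 1)) = ((g : G)⁻¹) ^ u := by
          rw [mul_comm, pow_mul, inv_eq_of_mul_eq_one_right
            (show (g : G) * (g : G) ^ (N - 1) = 1 by
              rw [← pow_succ', Nat.sub_add_cancel hN1, hgp])]
        have h5 := rational_three h hgen hd hgp hu2
        rw [hinv, inv_pow, apply_inv (isCharacter_irr ζ)] at h5
        rw [← h5, Complex.conj_conj, add_comm])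
    (n := 6) (by
      show (ζ : G → ℂ) ((1 : (R : Subgroup G)) : G) +
          (starRingEnd ℂ) ((ζ : G → ℂ) ((1 : (R : Subgroup G)) : G)) = (6 : ℕ)
      rw [OneMemClass.coe_one, apply_one_zeta, hd, Complex.conj_natCast]
      norm_num) ha
  exact hb.trans (by decide)

include h hgen hd in
theorem card_quotient_dvd : Nat.card (G ⧸ Subgroup.center G) ∣ 6480 := by
  refine (Nat.dvd_iff_prime_pow_dvd_dvd _ _).2 fun q k hq hqk => ?_
  have hG : q ^ k ∣ Nat.card G := hqk.trans (Subgroup.card_quotient_dvd_card _)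
  have hle := (hq.pow_dvd_iff_le_factorization Nat.card_pos.ne').1 hG
  by_cases h2 : q = 2
  · subst h2
    exact (pow_dvd_pow 2 (hle.trans (card_two_le h hgen hd))).trans (by norm_num)
  by_cases h3 : q = 3
  · subst h3
    exact (pow_dvd_pow 3 (hle.trans (card_three_le h hgen hd))).trans (by norm_num)
  by_cases h5 : q = 5
  · subst h5
    have hk : k ≤ 1 := by
      by_contra hk
      exact h.sq ((pow_dvd_pow 5 (by omega)).trans hG)
    exact (pow_dvd_pow 5 hk).trans (by norm_num)
  rcases k with _ | k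
  · simp
  exfalso
  have h7 : 4 < q := by
    have := hq.two_le
    by_contra hle4
    interval_cases q
    · exact h2 rfl
    · exact h3 rfl
    · norm_num at hq
  exact Core.not_dvd h hgen hq h5 (by omega) ((dvd_pow_self q k.succ_ne_zero).trans hG)

include h hgen hd in
/-- The group is `A₅` or `A₆` modulo its centre. -/
theorem core : Nonempty ((G ⧸ Subgroup.center G) ≃*
      Matrix.ProjectiveSpecialLinearGroup (Fin 2) (ZMod 5)) ∨
    Nonempty ((G ⧸ Subgroup.center G) ≃* ↥(alternatingGroup (Fin 6))) := by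
  obtain ⟨hsimp, hnc⟩ := Core.simple h hgen
  haveI := hsimp
  obtain ⟨n, hn, hcard⟩ := Core.card_quotient h
  have he := (Split.card_cls h (Or.inl rfl)).2
  have hdvd := card_quotient_dvd h hgen hd
  rw [hcard, show Fintype.card (ex h) = 2 by omega] at hdvd
  have hn648 : n ∣ 648 := (Nat.mul_dvd_mul_iff_left (show 0 < 2 * 5 by norm_num)).1 hdvd
  have key : ∀ m ∈ Nat.divisors 648, m % 5 = 1 → m = 1 ∨ m = 6 ∨ m = 36 ∨ m = 81 ∨ m = 216 := by
    decide
  rw [show Fintype.card (ex h) = 2 by omega] at hcard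
  rcases key n (Nat.mem_divisors.2 ⟨hn648, by norm_num⟩) hn with rfl | rfl | rfl | rfl | rfl
  case inr.inl => exact Or.inl (SmallGroups.RecogSmall.psl_five hcard (ZMod.card 5))
  case inr.inr.inl => exact Or.inr (Cfsg.Agent.S0497.result hcard)
  all_goals
    exfalso
    have h1 := SmallSimple.Known.card_mem hnc (by omega)
    rw [hcard] at h1
    simp [SmallSimple.Known.orders] at h1

omit [Fact (Nat.Prime 5)] in
/-- Degree three and the prime five. -/
theorem main [Fact (Nat.Prime 5)] (h : Hyp 5 x ζ) (hd : Cfsg.charDegree (ζ : G → ℂ) = 3) :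
    Nonempty ((G ⧸ Subgroup.center G) ≃*
      Matrix.ProjectiveSpecialLinearGroup (Fin 2) (ZMod 5)) ∨
    Nonempty ((G ⧸ Subgroup.center G) ≃* ↥(alternatingGroup (Fin 6))) := by
  obtain ⟨y, φ, hy, hyH, hgen, hdeg⟩ := Split.exists_core h
  have h1 := (Split.card_cls h (Or.inl rfl)).2
  have h2 := (Split.card_cls hyH (Or.inl rfl)).2
  obtain ⟨e⟩ := Split.quot_equiv h hy hyH (by omega)
  rcases core hyH hgen (hdeg.trans hd) with h3 | h3
  · exact Or.inl (h3.map e.trans)
  · exact Or.inr (h3.map e.trans)

end Cfsg.Agent.Lib.Small80.Five
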