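import Cfsg.Agent.Lib.Small80.Core
import Cfsg.Agent.Lib.Small80.Split
import Cfsg.Agent.Lib.Sixteen80.Top
import Cfsg.Agent.S4705

/-!
# Linear groups of degree below 27 for the primes at least 11

With two classes the group is `PSL₂(p)` modulo its centre, otherwise `p = 17` and the degree is 15.
-/

set_option autoImplicit false
set_option linter.unusedSectionVars false
set_option linter.style.haveILetI false

namespace Cfsg.Agent.Lib.Small80.Large

open Cfsg.Agent.Lib Cfsg.Agent.Lib.FirstPower Average Periods Cfsg.Agent.Lib.Characters.Basic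
open Cfsg.Agent.Lib.DegSubTwo.Reduction (gen_core nn_core core')
open FeitSmall FeitSmall.Setup FeitSmall.Spikes FeitSmall.Eigen

attribute [local instance] BlocksChars5.Basic.irrFintype

universe u

/-- Modulo the centre the group is `SL₂(16)`. -/
def IsSixteen (G : Type u) [Group G] : Prop :=
  ∃ (F : Type) (_ : Field F) (_ : Fintype F), Fintype.card F = 16 ∧
    Nonempty ((G ⧸ Subgroup.center G) ≃* Matrix.SpecialLinearGroup (Fin 2) F)

variable {p : ℕ} [Fact p.Prime] {G : Type u} [Group G] [Finite G] {x : G}
  {ζ : Cfsg.IrrCharacter G}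

/-- The hypotheses of the general setting. -/
theorem to_small (h : Hyp p x ζ) : Small80.Setup.Hyp p x ζ :=
  ⟨by have := h.lt; omega, h.ord, h.sq, h.nn, h.deg, h.faith⟩

/-- Degree 25 and the prime 29. -/
theorem not_four (h : Hyp p x ζ) (ht : 3 ≤ Fintype.card (Cls h)) (hp : p = 29)
    (hd : Cfsg.charDegree (ζ : G → ℂ) = 25) : False := by
  classical
  set H := core' x with hH
  have hxH : x ∈ H := Subgroup.subset_normalClosure rfl
  set y : H := ⟨x, hxH⟩ with hy
  have hyo : orderOf y = p := by rw [← h.ord, ← Subgroup.orderOf_coe]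
  have h2H : ¬ p ^ 2 ∣ Nat.card H := fun h' => h.sq (h'.trans (Subgroup.card_subgroup_dvd_card H))
  let ζH : Cfsg.IrrCharacter H := ⟨_, restrict_irr h⟩
  have hdegH : Cfsg.charDegree (ζH : H → ℂ) = Cfsg.charDegree (ζ : G → ℂ) :=
    BlocksChars5.Basic.charDegree_congr rfl
  have hyH : Hyp p y ζH := ⟨h.lt, hyo, h2H, nn_core h.ord h.sq h.nn, hdegH ▸ h.deg,
    fun a ha => Subtype.ext (h.faith _ ha)⟩
  have ht' : 3 ≤ Fintype.card (Cls hyH) := by
    have h1 := two_le hyH
    by_contra hne
    have h3 := Two.degree_cases hyH (by omega)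
    rw [hdegH, hd] at h3
    omega
  obtain ⟨y', hy', hexeq, st⟩ := exists_std hyH ht'
  have hgen' : Subgroup.normalClosure ({y'} : Set H) = ⊤ := by
    have hmem : y ∈ Subgroup.normalClosure ({y'} : Set H) := FeitSmall.Slice.mem_of_dvd hyH _ (by
      have h1 : y' ∈ Subgroup.normalClosure ({y'} : Set H) := Subgroup.subset_normalClosure rfl
      exact hy'.ord ▸ Subgroup.orderOf_dvd_natCard _ h1)
    rw [eq_top_iff, ← gen_core h.ord h.sq]
    exact Subgroup.normalClosure_le_normal (Set.singleton_subset_iff.2 hmem)
  have hodd : Odd (Nat.card (Subgroup.center H)) := by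
    rw [← Nat.not_even_iff_odd, even_iff_two_dvd]
    intro h2
    haveI : Fact (Nat.Prime 2) := ⟨Nat.prime_two⟩
    obtain ⟨⟨z, hz⟩, hzo⟩ := exists_prime_orderOf_dvd_card' 2 h2
    rw [Subgroup.orderOf_mk] at hzo
    have h1 := orderOf_dvd_of_pow_eq_one (Small80.Core.pow_deg (to_small hy') hgen' hz)
    rw [hzo, hdegH, hd] at h1
    omega
  have he := FeitSmall.Main.card_eq_two st hodd
  have h1 := st.deg
  rw [hdegH, hd, he] at h1
  omega

/-- The two outcomes. -/
theorem main (h : Hyp p x ζ) (hd : Cfsg.charDegree (ζ : G → ℂ) < 27) :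
    (Nonempty ((G ⧸ Subgroup.center G) ≃* Matrix.ProjectiveSpecialLinearGroup (Fin 2) (ZMod p)) ∧
      (2 * Cfsg.charDegree (ζ : G → ℂ) + 1 = p ∨ 2 * Cfsg.charDegree (ζ : G → ℂ) = p + 1)) ∨
    (p = 17 ∧ Cfsg.charDegree (ζ : G → ℂ) = 15 ∧ IsSixteen G) := by
  classical
  rcases (two_le h).eq_or_lt with h2 | h3
  · exact Or.inl (Two.psl_of_two h h2.symm)
  right
  obtain ⟨-, -, hdeg, -⟩ := exists_value h h3
  have hte := card_mul h
  have het := FeitSmall.Classes.card_add_three_le h h3
  have hlt := h.deg
  have hp11 : 11 ≤ p := by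
    have := h.lt
    by_contra hlt'
    have hpp : p.Prime := Fact.out
    interval_cases p <;> norm_num at hpp
  set e := Fintype.card (ex h) with hedef
  set t := Fintype.card (Cls h) with htdef
  have hmul : (e + 3) * e ≤ t * e := Nat.mul_le_mul_right _ het
  have he4 : e ≤ 4 := by
    by_contra hcon
    have : 8 * e ≤ (e + 3) * e := Nat.mul_le_mul_right _ (by omega)
    omega
  have hpp : p.Prime := Fact.out
  interval_cases e
  · omega
  · omega
  · -- degree `p - 2`
    obtain ⟨P, hP⟩ := Consequences.exists_sylow h.ord h.sq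
    have hPc : Nat.card P = p := by
      show Nat.card (P : Subgroup G) = p
      rw [hP, Nat.card_zpowers, h.ord]
    obtain ⟨a, F, iF, iFF, hpa, hFc, ⟨f⟩⟩ := Cfsg.Agent.S4705.result p (by omega) P hPc
      (fun hn => h.nn _ hn hPc) (ζ : G → ℂ) ζ.2 h.faith (by omega)
    have ha : a < 5 := by
      by_contra hcon
      have := Nat.pow_le_pow_right (show 0 < 2 by norm_num) (show 5 ≤ a by omega)
      omega
    have hp17 : a = 4 := by
      interval_cases a <;> norm_num at hpa
      all_goals first | omega | (rw [hpa] at hpp; norm_num at hpp)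
    subst hp17
    refine ⟨by omega, by omega, F, iF, iFF, hFc, ⟨?_⟩⟩
    let g : G →* Matrix.SpecialLinearGroup (Fin 2) F := (MonoidHom.fst _ _).comp f.toMonoidHom
    have hg : Function.Surjective g := fun s => ⟨f.symm (s, 1), by simp [g]⟩
    have hker : g.ker = Subgroup.center G := by
      ext a
      rw [MonoidHom.mem_ker, Subgroup.mem_center_iff]
      constructor
      · intro h1 b
        refine f.injective ?_
        have h1' : (f a).1 = 1 := h1
        rw [map_mul, map_mul]
        refine Prod.ext ?_ ?_
        · rw [Prod.fst_mul, Prod.fst_mul, h1', mul_one, one_mul]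
        · exact Subtype.ext (by
            rw [Prod.snd_mul, Prod.snd_mul, Subgroup.coe_mul, Subgroup.coe_mul]
            exact Subgroup.mem_center_iff.1 (f a).2.2 _)
      · intro hc
        have hcen : (f a).1 ∈ Subgroup.center (Matrix.SpecialLinearGroup (Fin 2) F) := by
          refine Subgroup.mem_center_iff.2 fun s => ?_
          have h1 := congrArg (fun v => (f v).1) (hc (f.symm (s, 1)))
          simpa using h1
        rw [Matrix.SpecialLinearGroup.mem_center_iff] at hcen
        obtain ⟨r, hr, hrs⟩ := hcen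
        rw [Fintype.card_fin] at hr
        have hchar : CharP F 2 := charP_of_card_eq_prime_pow hFc
        have hr1 : r = 1 := by
          have h2 : (r - 1) ^ 2 = 0 := by
            haveI := hchar
            rw [sub_pow_char, hr, one_pow, sub_self]
          exact sub_eq_zero.1 (pow_eq_zero_iff (by norm_num) |>.1 h2)
        show (f a).1 = 1
        refine Subtype.ext ?_
        rw [← hrs, hr1]
        simp
    exact (QuotientGroup.quotientMulEquivOfEq hker.symm).trans
      (QuotientGroup.quotientKerEquivOfSurjective g hg)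
  · exfalso
    have hp19 : p = 19 := by
      rcases (by omega : p = 19 ∨ p = 22 ∨ p = 25 ∨ p = 28) with e' | e' | e' | e'
      · exact e'
      all_goals (rw [e'] at hpp; norm_num at hpp)
    have h4 := Sixteen80.Top.card_cls h (by omega) (by omega)
    omega
  · exfalso
    refine not_four h h3 ?_ (by omega)
    omega

end Cfsg.Agent.Lib.Small80.Large
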