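import Cfsg.Agent.Lib.Small80.Core
import Cfsg.Agent.Lib.Small80.Split
import Cfsg.Agent.Lib.Small80.Descent
import Cfsg.Agent.Lib.BrauerChar.Decompose
import Cfsg.Agent.Lib.GL4Two
import Cfsg.Agent.Lib.SmallSimple.Known
import Cfsg.Agent.Lib.SmallGroups.RecogSmall
import Cfsg.Agent.S0984

/-!
# Linear groups of degree four and the prime seven

Reduced modulo 2 the traces lie in the field with two elements, so the central quotient is a
subgroup of `GL₃(2)` or of `GL₄(2)`; by its order it is `PSL₂(7)`, `A₇` or `A₈`, and the values at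
an element of order 15 exclude `A₈`.
-/

set_option autoImplicit false
set_option linter.unusedSectionVars false
set_option linter.style.haveILetI false
set_option synthInstance.maxHeartbeats 100000

namespace Cfsg.Agent.Lib.Small80.Seven

open Cfsg.Agent.Lib Cfsg.Agent.Lib.FirstPower Average Periods Cfsg.Agent.Lib.Characters.Basic
open Small80.Setup Small80.Spikes
open BrauerChar

attribute [local instance] BlocksChars5.Basic.irrFintype Ideal.Quotient.field

universe u

/-- In characteristic two the trace of a square is the square of the trace. -/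
theorem trace_sq {ι : Type*} [Fintype ι] [DecidableEq ι] {K : Type*} [CommRing K] [CharP K 2]
    (X : Matrix ι ι K) : (X * X).trace = X.trace ^ 2 := by
  haveI : Fact (Nat.Prime 2) := ⟨Nat.prime_two⟩
  rw [Matrix.trace, Matrix.trace, sum_pow_char 2]
  simp only [Matrix.diag_apply, Matrix.mul_apply]
  rw [← Finset.sum_product', ← Finset.diag_union_offDiag,
    Finset.sum_union (Finset.disjoint_diag_offDiag _),
    Finset.sum_involution (s := Finset.offDiag _) (fun t _ => (t.2, t.1))
      (fun t _ => by rw [mul_comm (X t.2 t.1)]; exact CharTwo.add_self_eq_zero _)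
      (fun t ht _ e => (Finset.mem_offDiag.1 ht).2.2 (congrArg Prod.fst e).symm)
      (fun t ht => by
        rw [Finset.mem_offDiag] at ht ⊢
        exact ⟨ht.2.1, ht.1, Ne.symm ht.2.2⟩)
      (fun t _ => rfl), add_zero, Finset.sum_diag]
  exact Finset.sum_congr rfl fun i _ => (pow_two _).symm

/-- In dimension two an element of order seven conjugate to its square is trivial. -/
theorem eq_one_two {K : Type*} [Field K] [CharP K 2] {X : Matrix (Fin 2) (Fin 2) K}
    (hdet : X.det = 1) (h7 : X ^ 7 = 1) (ht : (X * X).trace = X.trace) : X = 1 := by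
  have e2 : X * X = X.trace • X - 1 := by
    rw [Matrix.det_fin_two] at hdet
    ext i j
    fin_cases i <;> fin_cases j <;>
      simp [Matrix.mul_apply, Matrix.trace_fin_two, Fin.sum_univ_two, Matrix.one_apply] <;>
      first | linear_combination hdet | linear_combination -hdet | ring_nf
  have ht2 : X.trace * X.trace = X.trace := by rw [← pow_two, ← trace_sq, ht]
  rcases eq_or_ne X.trace 0 with h0 | h0
  · rw [h0, zero_smul, zero_sub] at e2
    have h4 : X ^ 4 = 1 := by
      rw [show (4 : ℕ) = 2 * 2 from rfl, pow_mul, pow_two X, e2, neg_sq, one_pow]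
    have h8 : X ^ 8 = X := by rw [show (8 : ℕ) = 7 + 1 from rfl, pow_succ, h7, one_mul]
    rwa [show (8 : ℕ) = 4 * 2 from rfl, pow_mul, h4, one_pow, eq_comm] at h8
  · rw [mul_left_eq_self₀.1 ht2 |>.resolve_right h0, one_smul] at e2
    have h3 : X ^ 3 = -1 := by
      rw [pow_succ, pow_two, e2, sub_mul, one_mul, e2]
      abel
    have h6 : X ^ 6 = 1 := by rw [show (6 : ℕ) = 3 * 2 from rfl, pow_mul, h3, neg_sq, one_pow]
    rwa [pow_succ, h6, one_mul] at h7

/-- The spanning condition. -/
theorem span_of_full {M : Ideal Cfsg.AlgInt} [M.IsMaximal] {G : Type u} [Group G] {ι : Type}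
    [Fintype ι] [DecidableEq ι] {A : G →* Matrix ι ι (Rk M)} (hA : FullSpan A) :
    Submodule.span (Rk M) (Set.range A) = ⊤ := by
  refine eq_top_iff.2 fun X _ => ?_
  obtain ⟨z, rfl⟩ := hA X
  induction z using MonoidAlgebra.induction_on with
  | of g =>
    rw [MonoidAlgebra.of_apply, alg_single, one_smul]
    exact Submodule.subset_span ⟨g, rfl⟩
  | add a b ha hb => rw [map_add]; exact add_mem (ha trivial) (hb trivial)
  | smul r a ha => rw [map_smul]; exact Submodule.smul_mem _ r (ha trivial)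

/-- The unit 2 modulo 7. -/
def two7 : (ZMod 7)ˣ := ⟨2, 4, by decide, by decide⟩

theorem two7_cube : two7 ^ 3 = 1 := by decide

theorem card_cube : (Finset.univ.filter fun v : (ZMod 7)ˣ => v ^ 3 = 1).card = 3 := by decide

variable [Fact (Nat.Prime 7)] {G : Type u} [Group G] [Finite G] {x : G}
  {ζ : Cfsg.IrrCharacter G}

variable (h : Hyp 7 x ζ) (hgen : Subgroup.normalClosure ({x} : Set G) = ⊤)
  (hd : Cfsg.charDegree (ζ : G → ℂ) = 4)

include h hd in
theorem two_cls : Fintype.card (Cls h) = 2 ∧ Fintype.card (ex h) = 3 := by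
  obtain ⟨h1, h2⟩ := Split.card_cls h (Or.inr ⟨rfl, by omega⟩)
  exact ⟨h1, by omega⟩

include h hd in
theorem mem_ex {u : (ZMod 7)ˣ} (hu : u ^ 3 = 1) : u ∈ ex h := by
  classical
  have hS : (Finset.univ.filter fun v : (ZMod 7)ˣ => v ^ 3 = 1).card = 3 := by
    convert card_cube
  have hsub : (ex h : Set (ZMod 7)ˣ).toFinset ⊆
      Finset.univ.filter fun v : (ZMod 7)ˣ => v ^ 3 = 1 := fun v hv => by
    refine Finset.mem_filter.2 ⟨Finset.mem_univ _, ?_⟩
    have h1 := pow_card_eq_one (x := (⟨v, Set.mem_toFinset.1 hv⟩ : ex h))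
    rw [(two_cls h hd).2] at h1
    exact congrArg Subtype.val h1
  have heq := Finset.eq_of_subset_of_card_le hsub (by
    rw [hS, Set.toFinset_card, ← Nat.card_eq_fintype_card]
    exact (Nat.card_eq_fintype_card.trans (two_cls h hd).2).ge)
  have h2 : u ∈ (ex h : Set (ZMod 7)ˣ).toFinset := by
    rw [heq]; exact Finset.mem_filter.2 ⟨Finset.mem_univ _, hu⟩
  exact Set.mem_toFinset.1 h2

include h hgen hd in
theorem pow_four {z : G} (hz : z ∈ Subgroup.center G) : z ^ 4 = 1 := hd ▸ Core.pow_deg h hgen hz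

include h hgen hd in
/-- Squaring an element of odd order. -/
theorem apply_sq {g : G} (hg : ¬ 2 ∣ orderOf g) :
    (ζ : G → ℂ) (g ^ 2) = (ζ : G → ℂ) g := by
  obtain ⟨k, -, -, hk, hval⟩ := Core.apply_pow_of_modEq h (two_cls h hd).1 Nat.prime_two
    (by norm_num) (Nat.coprime_one_left 2) (v := 2)
    (Nat.coprime_ordCompl Nat.prime_two Nat.card_pos.ne')
    (w := two7) rfl (mem_ex h hd two7_cube)
    (fun z hz => Or.inl ⟨by
      obtain ⟨i, -, hi⟩ := (Nat.dvd_prime_pow Nat.prime_two).1
        (orderOf_dvd_of_pow_eq_one (pow_four h hgen hd hz) : orderOf z ∣ 2 ^ 2)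
      rw [hi]
      exact pow_dvd_pow 2 ((Nat.prime_two.pow_dvd_iff_le_factorization Nat.card_pos.ne').1
        (hi ▸ orderOf_dvd_natCard z)), pow_one z⟩) g
  refine (congrArg (ζ : G → ℂ) ?_).trans hval
  refine (pow_eq_pow_iff_modEq.2 (hk.of_dvd ?_)).symm
  have h4 := orderOf_dvd_natCard g
  rw [← Nat.ordProj_mul_ordCompl_eq_self (Nat.card G) 2] at h4
  exact (((Nat.prime_two.coprime_iff_not_dvd.2 hg).symm).pow_right _).dvd_of_dvd_mul_left h4

include h hgen hd in
/-- The seventh power of an element of order dividing 15. -/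
theorem apply_seventh {g : G} (hg : g ^ 15 = 1) :
    (ζ : G → ℂ) (g ^ 7) = (ζ : G → ℂ) g := by
  obtain ⟨k, -, hk5, hk3, hval⟩ := Core.apply_pow_of_modEq h (two_cls h hd).1
    (r := 5) Nat.prime_five (by norm_num) (u := 2) (by norm_num) (v := 1)
    (Nat.coprime_one_left _) (w := 1) (by simp) (one_mem _)
    (fun z hz => Or.inr ⟨fun h5 => by
      have := Nat.dvd_trans h5 (orderOf_dvd_of_pow_eq_one (pow_four h hgen hd hz))
      norm_num at this, pow_one z⟩) g
  have hdG := orderOf_dvd_natCard g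
  have hcard := (Nat.ordProj_mul_ordCompl_eq_self (Nat.card G) 5).symm
  refine (congrArg (ζ : G → ℂ) ?_).trans hval
  refine (pow_eq_pow_iff_modEq.2 ?_).symm
  have h5 : 5 ∣ orderOf g → k % 5 = 2 := fun h5 => by
    have h1 := (Nat.prime_five.dvd_iff_one_le_factorization Nat.card_pos.ne').1 (h5.trans hdG)
    exact hk5.of_dvd (dvd_pow_self 5 (by omega))
  have h3 : 3 ∣ orderOf g → k % 3 = 1 := fun h3 => by
    refine hk3.of_dvd ?_
    have h1 := h3.trans hdG
    rw [hcard] at h1
    exact (Nat.Coprime.pow_right _ (by norm_num)).dvd_of_dvd_mul_left h1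
  have key : orderOf g ∈ Nat.divisors 15 :=
    Nat.mem_divisors.2 ⟨orderOf_dvd_of_pow_eq_one hg, by norm_num⟩
  have hdiv : Nat.divisors 15 = {1, 3, 5, 15} := by decide
  rw [hdiv] at key
  simp only [Finset.mem_insert, Finset.mem_singleton] at key
  rcases key with e | e | e | e <;> rw [e] at h3 h5 ⊢
  · exact Nat.modEq_one
  · exact h3 dvd_rfl
  · exact h5 dvd_rfl
  · have := h3 (by norm_num)
    have := h5 (by norm_num)
    show k % 15 = 7 % 15
    omega

include h hgen in
theorem dichotomy {H : Type*} [Group H] (q : G →* H) :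
    q.ker = ⊤ ∨ q.ker ≤ Subgroup.center G := by
  by_cases hd7 : 7 ∣ Nat.card q.ker
  · exact Or.inl (top_le_iff.1 (hgen ▸ Subgroup.normalClosure_le_normal
      (Set.singleton_subset_iff.2 (Core.le_of_dvd h _ hd7))))
  · exact Or.inr (Core.center_eq_of_not_dvd h hgen _ hd7)

include h hgen hd in
/-- A nontrivial representation has dimension at least three. -/
theorem three_le {M : Ideal Cfsg.AlgInt} [M.IsMaximal] (hM : Cfsg.IsPModular 2 M) {d : ℕ}
    (hd0 : 0 < d) (B : G →* Matrix (Fin d) (Fin d) (Rk M)) (hne : ∃ g, B g ≠ 1) : 3 ≤ d := by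
  haveI := Blocks.charP_residue hM
  obtain ⟨g₀, hg₀⟩ := hne
  have hdet : ∀ g, (B g).det = 1 := fun g => by
    let F : G →* (Rk M)ˣ := ((Matrix.detMonoidHom).comp B).toHomUnits
    have hmem : g ∈ commutator G := by rw [Core.perfect h hgen]; trivial
    have hle : commutator G ≤ F.ker := by
      rw [commutator_def, Subgroup.commutator_le]
      intro a _ b _
      rw [MonoidHom.mem_ker, map_commutatorElement, commutatorElement_eq_one_iff_mul_comm]
      exact Units.ext (by rw [Units.val_mul, Units.val_mul]; exact mul_comm _ _)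
    exact congrArg Units.val (MonoidHom.mem_ker.1 (hle hmem))
  by_contra hlt
  obtain rfl | rfl : d = 1 ∨ d = 2 := by omega
  · refine hg₀ ?_
    ext i j
    fin_cases i; fin_cases j
    have := hdet g₀
    rw [Matrix.det_fin_one] at this
    simpa using this
  · obtain ⟨a, ha⟩ := isConj_iff.1 ((mem_autE (Family.pow_eq_one_of_order h.ord)).1
      (mem_ex h hd two7_cube))
    rw [show ((two7 : (ZMod 7)ˣ) : ZMod 7).val = 2 from rfl] at ha
    have hx1 : B x = 1 := eq_one_two (hdet x)
      (by rw [← map_pow, Family.pow_eq_one_of_order h.ord, map_one]) (by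
        rw [← map_mul, ← pow_two, ← ha, map_mul, map_mul, Matrix.trace_mul_comm, ← mul_assoc,
          ← map_mul, inv_mul_cancel, map_one, one_mul])
    rcases dichotomy h hgen B.toHomUnits with e | e
    · exact hg₀ (congrArg Units.val (MonoidHom.mem_ker.1 (show g₀ ∈ B.toHomUnits.ker from
        e ▸ Subgroup.mem_top g₀)))
    · exact not_dvd_center h (h.ord ▸ Subgroup.orderOf_dvd_natCard _
        (e (MonoidHom.mem_ker.2 (Units.ext (by simpa using hx1)))))

set_option maxHeartbeats 1000000 in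
include h hgen hd in
/-- The central quotient is linear over the field with two elements. -/
theorem exists_embedding : ∃ (d : ℕ) (j : (G ⧸ Subgroup.center G) →* GL (Fin d) (ZMod 2)),
    Function.Injective j ∧ (d = 3 ∨ d = 4) := by
  classical
  haveI : Fact (Nat.Prime 2) := ⟨Nat.prime_two⟩
  obtain ⟨M, hM⟩ := Blocks.exists_isPModular 2 Nat.prime_two
  haveI := hM.2.1
  haveI := Blocks.charP_residue hM
  obtain ⟨n, T, hT⟩ := exists_matrix_localRing hM (isCharacter_irr ζ)
  let A : G →* Matrix (Fin n) (Fin n) (Rk M) :=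
    ((Blocks.residue M).mapMatrix.toMonoidHom).comp T
  have hval : ∀ y, ¬ 2 ∣ orderOf y → bchar 2 A y = (ζ : G → ℂ) y := fun y hy =>
    (bchar_reduction hM T hy).trans (hT y)
  have h1o : ¬ 2 ∣ orderOf (1 : G) := by rw [orderOf_one]; norm_num
  have hn : n = 4 := by
    have h0 := hval 1 h1o
    rw [bchar_one hM, Fintype.card_fin, apply_one_zeta, hd] at h0
    exact_mod_cast h0
  obtain ⟨s, hs, -⟩ := decompose hM A
  have hsum : ∀ y, bchar 2 A y = (s.map fun e => bchar 2 e.rep y).sum := fun y => by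
    rw [hs, Pi.multiset_sum_apply, Multiset.map_map]
    exact congrArg _ (Multiset.map_congr rfl fun e _ => by rw [Function.comp_apply, e.bchar_rep])
  have htrsum : ∀ y, ¬ 2 ∣ orderOf y →
      (A y).trace = (s.map fun e => (e.rep y).trace).sum := fun y hy => by
    have h0 : bcharA 2 A y = (s.map fun e => bcharA 2 e.rep y).sum := by
      apply Subtype.ext
      refine (hsum y).trans ?_
      refine Eq.trans ?_ (map_multiset_sum (Cfsg.AlgInt.val) _).symm
      rw [Multiset.map_map]
      rfl
    rw [← mk_bcharA hM A hy, h0, map_multiset_sum, Multiset.map_map]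
    exact congrArg _ (Multiset.map_congr rfl fun e _ => mk_bcharA hM e.rep hy)
  have hdegs : (s.map fun e => e.deg).sum = 4 := by
    have h0 := hsum 1
    simp only [bchar_one hM, Fintype.card_fin, hn] at h0
    have h1 : (((s.map fun e => e.deg).sum : ℕ) : ℂ) = (4 : ℕ) := by
      rw [Nat.cast_multiset_sum, Multiset.map_map]
      exact h0.symm
    exact_mod_cast h1
  -- a nontrivial constituent
  obtain ⟨f, hfs, hfne⟩ : ∃ f ∈ s, ∃ g, f.rep g ≠ 1 := by
    by_contra hcon
    push Not at hcon
    have hx2 : ¬ 2 ∣ orderOf x := by rw [h.ord]; norm_num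
    have e : (ζ : G → ℂ) x = (ζ : G → ℂ) 1 := by
      rw [← hval x hx2, ← hval 1 h1o, hsum, hsum]
      refine congrArg _ (Multiset.map_congr rfl fun e he => ?_)
      rw [bchar_regular e.rep hx2, bchar_regular e.rep h1o, hcon e he, hcon e he]
    have := h.ord
    rw [h.faith x e, orderOf_one] at this
    norm_num at this
  have hf3 := three_le h hgen hd hM f.deg_pos f.rep hfne
  obtain ⟨s', rfl⟩ := Multiset.exists_cons_of_mem hfs
  rw [Multiset.map_cons, Multiset.sum_cons] at hdegs
  have htriv : ∀ e ∈ s', ∀ g, e.rep g = 1 := by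
    intro e he g
    by_contra hne
    have h3 := three_le h hgen hd hM e.deg_pos e.rep ⟨g, hne⟩
    have := Multiset.le_sum_of_mem (Multiset.mem_map_of_mem (fun e => e.deg) he)
    omega
  set c : Rk M := (s'.map fun e => (e.deg : Rk M)).sum with hc
  have hA : ∀ y, ¬ 2 ∣ orderOf y → (A y).trace = (f.rep y).trace + c := fun y hy => by
    rw [htrsum y hy, Multiset.map_cons, Multiset.sum_cons, hc]
    congr 1
    refine congrArg _ (Multiset.map_congr rfl fun e he => ?_)
    rw [htriv e he, Matrix.trace_one, Fintype.card_fin]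
  have htr : ∀ g, (f.rep g).trace = 0 ∨ (f.rep g).trace = 1 := by
    intro g
    obtain ⟨a, y, hxy, hcm, hk, hy⟩ := Blocks.exists_isPPart Nat.prime_two g
    rw [← hxy, trace_mul_pElt hM f.rep hcm hk]
    have hy2 : ¬ 2 ∣ orderOf (y ^ 2) := fun h2 => hy (h2.trans (orderOf_pow_dvd 2))
    have e : (A (y ^ 2)).trace = (A y).trace := by
      rw [← mk_bcharA hM A hy2, ← mk_bcharA hM A hy]
      refine congrArg _ (Subtype.ext ?_)
      exact (hval _ hy2).trans ((apply_sq h hgen hd hy).trans (hval y hy).symm)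
    rw [hA _ hy2, hA y hy, add_left_inj, pow_two, map_mul, trace_sq, pow_two] at e
    rcases eq_or_ne (f.rep y).trace 0 with h0 | h0
    · exact Or.inl h0
    · exact Or.inr ((mul_left_eq_self₀.1 e).resolve_right h0)
  have htor : ∀ a : Rk M, a ≠ 0 → ∃ m : ℕ, 0 < m ∧ a ^ m = 1 := by
    intro a ha
    obtain ⟨b, rfl⟩ := Ideal.Quotient.mk_surjective a
    obtain ⟨ε, ⟨m, hm, hε⟩, hsub⟩ := Blocks.exists_rootOfUnity_lift hM
      (fun hb => ha (Ideal.Quotient.eq_zero_iff_mem.2 hb))
    refine ⟨m, Nat.pos_of_ne_zero fun h0 => hm (h0 ▸ dvd_zero 2), ?_⟩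
    rw [Ideal.Quotient.eq.2 hsub, ← map_pow,
      show ε ^ m = 1 from Subtype.ext (by push_cast; exact hε), map_one]
  obtain ⟨q, hq⟩ := Descent.exists_binary htor f.deg_pos f.rep (span_of_full f.full) htr
  have hker : q.ker = Subgroup.center G := by
    refine le_antisymm ((dichotomy h hgen q).resolve_left fun e => ?_) fun z hz => ?_
    · obtain ⟨g, hg⟩ := hfne
      exact hg ((hq g).1 (MonoidHom.mem_ker.1 (show g ∈ q.ker from e ▸ Subgroup.mem_top g)))
    rw [MonoidHom.mem_ker, hq]
    haveI : Nonempty (Fin f.deg) := ⟨⟨0, f.deg_pos⟩⟩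
    obtain ⟨k, hk⟩ := Matrix.mem_range_scalar_of_commute_single (M := f.rep z) (fun i j _ => by
      obtain ⟨w, hw⟩ := f.full (Matrix.single i j 1)
      rw [← hw]
      clear hw
      induction w using MonoidAlgebra.induction_on with
      | of g =>
        rw [MonoidAlgebra.of_apply, alg_single, one_smul]
        exact ((show Commute g z from Subgroup.mem_center_iff.1 hz g)).map f.rep
      | add a b ha hb => rw [map_add]; exact ha.add_left hb
      | smul r a ha =>
        rw [map_smul]
        exact (Matrix.smul_mul r _ _).trans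
          ((congrArg (r • ·) ha.eq).trans (Matrix.mul_smul _ r _).symm))
    rw [← hk]
    have hk4 : k ^ 4 = 1 := by
      refine Matrix.scalar_inj.1 (show Matrix.scalar (Fin f.deg) (k ^ 4) = Matrix.scalar _ 1 from ?_)
      rw [map_pow, hk, ← map_pow, pow_four h hgen hd hz, map_one, map_one]
    have hk1 : (k - 1) ^ 2 ^ 2 = 0 := by
      rw [sub_pow_char_pow, one_pow, show (2 : ℕ) ^ 2 = 4 from rfl, hk4, sub_self]
    rw [sub_eq_zero.1 (eq_zero_of_pow_eq_zero hk1), map_one]
  refine ⟨f.deg, QuotientGroup.lift (Subgroup.center G) q hker.ge, ?_, by omega⟩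
  rw [← MonoidHom.ker_eq_bot_iff, eq_bot_iff]
  intro a ha
  obtain ⟨g, rfl⟩ := QuotientGroup.mk_surjective a
  rw [MonoidHom.mem_ker, QuotientGroup.lift_mk, ← MonoidHom.mem_ker, hker] at ha
  exact Subgroup.mem_bot.2 ((QuotientGroup.eq_one_iff g).2 ha)

include h hgen hd in
/-- No element of order 15 in the central quotient. -/
theorem no_fifteen (a : G ⧸ Subgroup.center G) : orderOf a ≠ 15 := by
  classical
  intro hao
  obtain ⟨g, rfl⟩ := QuotientGroup.mk_surjective a
  have hg15 : g ^ 15 ∈ Subgroup.center G := by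
    rw [← QuotientGroup.eq_one_iff, QuotientGroup.mk_pow, ← hao, pow_orderOf_eq_one]
  set b := g ^ 4 with hb
  have hb15 : b ^ 15 = 1 := by
    rw [hb, ← pow_mul, mul_comm, pow_mul, pow_four h hgen hd hg15]
  obtain ⟨n, ρ, hρ, hρζ⟩ := exists_rep ζ
  have hn : n = 4 := by
    have h0 : (ζ : G → ℂ) 1 = n := by
      rw [← hρζ, Representation.char_one, Module.finrank_fin_fun]
    rw [apply_one_zeta, hd] at h0
    exact_mod_cast h0.symm
  obtain ⟨ι, hι, bs, z, hz, hcard, -⟩ :=
    Characters.Diag.exists_eigenbasis ρ b (N := 15) (by norm_num) hb15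
  rw [Module.finrank_fin_fun, hn] at hcard
  have hpow : ∀ (k : ℕ) i, ρ (b ^ k) (bs i) = z i ^ k • bs i := by
    intro k i
    induction k with
    | zero => simp
    | succ k ih =>
      rw [pow_succ, map_mul, Module.End.mul_apply, (hz i).1, map_smul, ih, smul_smul, pow_succ']
  have hval : ∀ k : ℕ, (ζ : G → ℂ) (b ^ k) = ∑ i, z i ^ k := fun k => by
    rw [← hρζ]
    exact Characters.Diag.trace_eq_sum_eigenvalues bs _ _ (hpow k)
  have hR : ∀ R : Polynomial ℂ, ∑ i, R.eval (z i ^ 7) = ∑ i, R.eval (z i) := by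
    intro R
    simp only [Polynomial.eval_eq_sum_range]
    rw [Finset.sum_comm, Finset.sum_comm (γ := ι)]
    refine Finset.sum_congr rfl fun k _ => ?_
    rw [← Finset.mul_sum, ← Finset.mul_sum]
    congr 1
    rw [← hval, Finset.sum_congr rfl (g := fun i => z i ^ (k * 7)) fun i _ => by
      rw [← pow_mul, mul_comm], ← hval, pow_mul]
    refine apply_seventh h hgen hd ?_
    rw [← pow_mul, mul_comm, pow_mul, hb15, one_pow]
  have hclosed : ∀ i, ∃ j, z j = z i ^ 7 := by
    intro i
    let P : Polynomial ℂ := ∏ j, (Polynomial.X - Polynomial.C (z j))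
    let Q : Polynomial ℂ := ∏ j, (Polynomial.X ^ 14 - Polynomial.C ((starRingEnd ℂ) (z j)))
    have hPQ : ∀ w : ℂ, w ^ 15 = 1 → (P * Q).eval w = (Complex.normSq (P.eval w) : ℂ) := by
      intro w hw
      rw [← Complex.mul_conj, Polynomial.eval_mul]
      congr 1
      simp only [P, Q, Polynomial.eval_prod, Polynomial.eval_sub, Polynomial.eval_pow,
        Polynomial.eval_X, Polynomial.eval_C, map_prod, map_sub]
      refine Finset.prod_congr rfl fun j _ => ?_
      rw [Characters.Diag.conj_eq_inv_of_pow (by norm_num) hw,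
        ← eq_inv_of_mul_eq_one_left (show w ^ 14 * w = 1 by rw [← pow_succ, hw])]
    have h7 : ∀ j, (z j ^ 7) ^ 15 = 1 := fun j => by
      rw [← pow_mul, mul_comm, pow_mul, (hz j).2, one_pow]
    have h0 : ∑ j, (Complex.normSq (P.eval (z j ^ 7)) : ℝ) = 0 := by
      have h1 := hR (P * Q)
      rw [Finset.sum_congr rfl fun j _ => hPQ _ (h7 j),
        Finset.sum_eq_zero (f := fun j => (P * Q).eval (z j)) fun j _ => by
          rw [Polynomial.eval_mul, Polynomial.eval_prod,
            Finset.prod_eq_zero (Finset.mem_univ j) (by simp), zero_mul]] at h1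
      exact_mod_cast h1
    have h2 := (Finset.sum_eq_zero_iff_of_nonneg fun j _ => Complex.normSq_nonneg _).1 h0 i
      (Finset.mem_univ i)
    rw [Complex.normSq_eq_zero, Polynomial.eval_prod, Finset.prod_eq_zero_iff] at h2
    obtain ⟨j, -, hj⟩ := h2
    rw [Polynomial.eval_sub, Polynomial.eval_X, Polynomial.eval_C, sub_eq_zero] at hj
    exact ⟨j, hj.symm⟩
  have hbc : ∀ k : ℕ, k < 15 → b ^ k ∈ Subgroup.center G → k = 0 := by
    intro k hk hkc
    rw [← QuotientGroup.eq_one_iff, QuotientGroup.mk_pow, hb, QuotientGroup.mk_pow, ← pow_mul,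
      ← orderOf_dvd_iff_pow_eq_one, hao] at hkc
    omega
  obtain ⟨i₀, hi₀⟩ : ∃ i, z i ^ 3 ≠ 1 := by
    by_contra hcon
    push Not at hcon
    have e : (ζ : G → ℂ) (b ^ 3) = (ζ : G → ℂ) 1 := by
      rw [← pow_zero b, hval, hval]
      exact Finset.sum_congr rfl fun i _ => by rw [hcon i, pow_zero]
    exact absurd (hbc 3 (by norm_num) (h.faith _ e ▸ one_mem _)) (by norm_num)
  set w := z i₀ with hw
  have hw15 : w ^ 15 = 1 := (hz i₀).2
  have hne : ∀ a b : ℕ, a < b → (b - a) % 3 = 0 → (b - a) % 5 ≠ 0 → w ^ a ≠ w ^ b := by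
    intro a b hab h3 h5 e
    have hwne : w ≠ 0 := fun h0 => by rw [h0] at hw15; norm_num at hw15
    have h1 : w ^ (b - a) = 1 := by
      refine mul_left_cancel₀ (pow_ne_zero a hwne) ?_
      rw [← pow_add, Nat.add_sub_cancel' hab.le, mul_one, e]
    have h2 : orderOf w ∣ Nat.gcd (b - a) 15 :=
      Nat.dvd_gcd (orderOf_dvd_of_pow_eq_one h1) (orderOf_dvd_of_pow_eq_one hw15)
    refine hi₀ (orderOf_dvd_iff_pow_eq_one.1 (h2.trans ?_))
    have h35 : Nat.gcd (b - a) 15 ∈ Nat.divisors 15 :=
      Nat.mem_divisors.2 ⟨Nat.gcd_dvd_right _ _, by norm_num⟩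
    rw [show Nat.divisors 15 = {1, 3, 5, 15} by decide] at h35
    simp only [Finset.mem_insert, Finset.mem_singleton] at h35
    have hga := Nat.gcd_dvd_left (b - a) 15
    rcases h35 with e' | e' | e' | e' <;> rw [e'] at hga ⊢ <;> omega
  let S : Finset ℂ := {w ^ 1, w ^ 7, w ^ 4, w ^ 13}
  have hS : S.card = 4 := by
    have n1 := hne 1 7 (by norm_num) (by norm_num) (by norm_num)
    have n2 := hne 1 4 (by norm_num) (by norm_num) (by norm_num)
    have n3 := hne 1 13 (by norm_num) (by norm_num) (by norm_num)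
    have n4 := hne 4 7 (by norm_num) (by norm_num) (by norm_num)
    have n5 := hne 7 13 (by norm_num) (by norm_num) (by norm_num)
    have n6 := hne 4 13 (by norm_num) (by norm_num) (by norm_num)
    rw [Finset.card_insert_of_notMem, Finset.card_insert_of_notMem,
      Finset.card_insert_of_notMem, Finset.card_singleton] <;>
      simp only [Finset.mem_insert, Finset.mem_singleton, not_or] <;>
      first | exact ⟨n1, n2, n3⟩ | exact ⟨n4.symm, n5⟩ | exact n6
  have hmem : ∀ t ∈ S, t ∈ Finset.univ.image z := by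
    have h1 : w ^ 1 ∈ Finset.univ.image z := Finset.mem_image.2 ⟨i₀, Finset.mem_univ _, by simp [hw]⟩
    have hstep : ∀ e e' : ℕ, w ^ e ∈ Finset.univ.image z → e * 7 % 15 = e' →
        w ^ e' ∈ Finset.univ.image z := by
      intro e e' he he'
      obtain ⟨i, -, hi⟩ := Finset.mem_image.1 he
      obtain ⟨j, hj⟩ := hclosed i
      refine Finset.mem_image.2 ⟨j, Finset.mem_univ _, ?_⟩
      rw [hj, hi, ← pow_mul, pow_eq_pow_mod (e * 7) hw15, he']
    have h7 := hstep 1 7 h1 rfl
    have h4 := hstep 7 4 h7 rfl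
    have h13 := hstep 4 13 h4 rfl
    intro t ht
    simp only [S, Finset.mem_insert, Finset.mem_singleton] at ht
    rcases ht with rfl | rfl | rfl | rfl <;> assumption
  have heq : S = Finset.univ.image z := Finset.eq_of_subset_of_card_le hmem (by
    rw [hS]
    exact Finset.card_image_le.trans (by rw [Finset.card_univ, hcard]))
  have h5 : ∀ i, z i ^ 5 = w ^ 5 := by
    intro i
    have hi : z i ∈ S := heq ▸ Finset.mem_image.2 ⟨i, Finset.mem_univ _, rfl⟩
    simp only [S, Finset.mem_insert, Finset.mem_singleton] at hi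
    rcases hi with e | e | e | e <;>
      · rw [e, ← pow_mul, pow_eq_pow_mod _ hw15]
  have hscal : ρ (b ^ 5) = w ^ 5 • 1 := bs.ext fun i => by
    rw [hpow, h5, LinearMap.smul_apply, Module.End.one_apply]
  refine absurd (hbc 5 (by norm_num) (Subgroup.mem_center_iff.2 fun a => ?_)) (by norm_num)
  have e : (ζ : G → ℂ) (a * b ^ 5 * a⁻¹ * (b ^ 5)⁻¹) = (ζ : G → ℂ) 1 := by
    rw [← hρζ, Representation.character, Representation.character]
    congr 1
    rw [map_mul, map_mul, map_mul, hscal, mul_smul_comm, mul_one, smul_mul_assoc, ← map_mul,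
      mul_inv_cancel, map_one, ← hscal, ← map_mul, mul_inv_cancel, map_one]
  have := h.faith _ e
  rwa [mul_inv_eq_one, mul_inv_eq_iff_eq_mul] at this

include h hgen hd in
/-- The group is `PSL₂(7)` or `A₇` modulo its centre. -/
theorem core : Nonempty ((G ⧸ Subgroup.center G) ≃*
      Matrix.ProjectiveSpecialLinearGroup (Fin 2) (ZMod 7)) ∨
    Nonempty ((G ⧸ Subgroup.center G) ≃* ↥(alternatingGroup (Fin 7))) := by
  obtain ⟨hsimp, hnc⟩ := Core.simple h hgen
  haveI := hsimp
  obtain ⟨m, hm, hcard⟩ := Core.card_quotient h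
  rw [(two_cls h hd).2] at hcard
  obtain ⟨d, j, hj, hd34⟩ := exists_embedding h hgen hd
  have h168 : Nat.card (GL (Fin 3) (ZMod 2)) = 168 := by
    haveI : Fact (Nat.Prime 2) := ⟨Nat.prime_two⟩
    rw [Matrix.card_GL_field, ZMod.card]
    decide
  have hdvd : Nat.card (G ⧸ Subgroup.center G) ∣ 20160 := by
    have h1 := Subgroup.card_dvd_of_injective j hj
    rcases hd34 with rfl | rfl
    · rw [h168] at h1; exact h1.trans (by norm_num)
    · rwa [GL4Two.card_GL] at h1
  have hm960 : m ∣ 960 := by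
    rw [hcard] at hdvd
    exact (Nat.mul_dvd_mul_iff_left (show 0 < 3 * 7 by norm_num)).1 hdvd
  have key : ∀ m ∈ Nat.divisors 960, m % 7 = 1 →
      m = 1 ∨ m = 8 ∨ m = 15 ∨ m = 64 ∨ m = 120 ∨ m = 960 := by
    decide +kernel
  rcases key m (Nat.mem_divisors.2 ⟨hm960, by norm_num⟩) hm with rfl | rfl | rfl | rfl | rfl | rfl
  case inr.inl => exact Or.inl (SmallGroups.RecogSmall.psl_seven hcard (ZMod.card 7))
  case inr.inr.inr.inr.inl => exact Or.inr (Cfsg.Agent.S0984.result hcard)
  case inr.inr.inr.inr.inr =>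
    exfalso
    rcases hd34 with rfl | rfl
    · have h1 := Subgroup.card_dvd_of_injective j hj
      rw [h168, hcard] at h1
      norm_num at h1
    have hbij : Function.Bijective j := hj.bijective_of_nat_card_le (by
      rw [GL4Two.card_GL, hcard])
    let e := (MulEquiv.ofBijective j hbij).trans GL4Two.equiv
    let σ : alternatingGroup (Fin 8) :=
      ⟨c[(0 : Fin 8), 1, 2, 3, 4] * c[(5 : Fin 8), 6, 7],
        Equiv.Perm.mem_alternatingGroup.2 (by decide +kernel)⟩
    have hσ : orderOf σ = 15 := by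
      rw [orderOf_eq_iff (by norm_num)]
      exact ⟨by decide +kernel, by decide +kernel⟩
    exact no_fifteen h hgen hd (e.symm σ) (by rw [MulEquiv.orderOf_eq, hσ])
  all_goals
    exfalso
    have h1 := SmallSimple.Known.card_mem hnc (by omega)
    rw [hcard] at h1
    simp [SmallSimple.Known.orders] at h1

omit [Fact (Nat.Prime 7)] in
/-- Degree four and the prime seven. -/
theorem main [Fact (Nat.Prime 7)] (h : Hyp 7 x ζ) (hd : Cfsg.charDegree (ζ : G → ℂ) = 4) :
    Nonempty ((G ⧸ Subgroup.center G) ≃*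
      Matrix.ProjectiveSpecialLinearGroup (Fin 2) (ZMod 7)) ∨
    Nonempty ((G ⧸ Subgroup.center G) ≃* ↥(alternatingGroup (Fin 7))) := by
  obtain ⟨y, φ, hy, hyH, hgen, hdeg⟩ := Split.exists_core h
  have h1 := (two_cls h hd).2
  have h2 := (two_cls hyH (hdeg.trans hd)).2
  obtain ⟨e⟩ := Split.quot_equiv h hy hyH (by omega)
  rcases core hyH hgen (hdeg.trans hd) with h3 | h3
  · exact Or.inl (h3.map e.trans)
  · exact Or.inr (h3.map e.trans)

end Cfsg.Agent.Lib.Small80.Seven
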