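import Cfsg.Agent.Lib.Small80.Prime
import Cfsg.Agent.Lib.Small80.Five
import Cfsg.Agent.Lib.Small80.Seven
import Cfsg.Agent.Lib.Small80.Large
import Cfsg.Agent.Lib.Linear.Transvection
import Cfsg.Agent.Lib.Sixteen80.Normalise
import Cfsg.Agent.S4504
import Cfsg.Agent.S4705

/-!
# Linear groups of degree below 27 and primes above the degree plus one

Either the Sylow subgroup is normal, or the group is one of `PSL₂(p)`, `SL₂(16)`, `A₇`, `A₆`
modulo its centre; in the case of `SL₂(16)` it splits over the centre.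
-/

set_option autoImplicit false
set_option linter.unusedSectionVars false
set_option linter.style.haveILetI false

namespace Cfsg.Agent.Lib.Small80.Main

open Cfsg.Agent.Lib Cfsg.Agent.Lib.FirstPower Average Periods Cfsg.Agent.Lib.Characters.Basic
open Sixteen80.Mult
open Cfsg.Agent.Lib.Sixteen80.Reduce (Noncomm)
open scoped commutatorElement

attribute [local instance] BlocksChars5.Basic.irrFintype

universe u

/-- Transport of the special linear group along an isomorphism of fields. -/
noncomputable def slCongr {F F' : Type} [Field F] [Field F'] (e : F ≃+* F') :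
    Matrix.SpecialLinearGroup (Fin 2) F ≃* Matrix.SpecialLinearGroup (Fin 2) F' :=
  MonoidHom.toMulEquiv (Matrix.SpecialLinearGroup.map e.toRingHom)
    (Matrix.SpecialLinearGroup.map e.symm.toRingHom)
    (MonoidHom.ext fun g => Matrix.SpecialLinearGroup.ext _ _ fun i j => by simp)
    (MonoidHom.ext fun g => Matrix.SpecialLinearGroup.ext _ _ fun i j => by simp)

/-- A perfect group times an abelian group is trivial in the second factor. -/
theorem center_trivial {D : Type u} [Group D] (hperf : commutator D = ⊤) {H : Type*} [Group H]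
    (f : D ≃* H × Subgroup.center D) : ∀ z : D, z ∈ Subgroup.center D → z = 1 := by
  intro z hz
  let q : D →* Subgroup.center D := (MonoidHom.snd _ _).comp f.toMonoidHom
  have hle : commutator D ≤ q.ker := by
    rw [commutator_def, Subgroup.commutator_le]
    intro a _ b _
    rw [MonoidHom.mem_ker, map_commutatorElement, commutatorElement_eq_one_iff_mul_comm]
    exact Subtype.ext (Subgroup.mem_center_iff.1 (q b).2 (q a : D))
  have h1 : (f (f.symm (1, ⟨z, hz⟩))).2 = 1 := MonoidHom.mem_ker.1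
    (hle (by rw [hperf]; trivial))
  rw [MulEquiv.apply_symm_apply] at h1
  exact congrArg Subtype.val h1

/-- A group of degree 15 that is `SL₂(16)` modulo its centre splits. -/
theorem sixteen {G : Type u} [Group G] [Finite G] [Fact (Nat.Prime 17)]
    (χ : Cfsg.IrrCharacter G) (hfaith : ∀ g : G, (χ : G → ℂ) g = (χ : G → ℂ) 1 → g = 1)
    (hd : Cfsg.charDegree (χ : G → ℂ) = 15) (h : Large.IsSixteen G) :
    ∃ (A : Type) (_ : CommGroup A) (_ : Finite A),
      Nonempty (G ≃* Matrix.SpecialLinearGroup (Fin 2) (GaloisField 2 4) × A) := by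
  classical
  obtain ⟨F, iF, iFF, hFc, ⟨e⟩⟩ := h
  have hSperf : commutator (Matrix.SpecialLinearGroup (Fin 2) F) = ⊤ :=
    Linear.commutator_SL_eq_top le_rfl fun _ => by rw [Nat.card_eq_fintype_card, hFc]; norm_num
  let π : G →* Matrix.SpecialLinearGroup (Fin 2) F := e.toMonoidHom.comp (QuotientGroup.mk' _)
  have hπ : Function.Surjective π := e.surjective.comp (QuotientGroup.mk'_surjective _)
  have hπk : ∀ g, π g = 1 ↔ g ∈ Subgroup.center G := fun g => by
    rw [← QuotientGroup.eq_one_iff]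
    exact map_eq_one_iff e e.injective
  set D := commutator G with hD
  have hDsurj : ∀ s, ∃ a : D, π a = s := by
    intro s
    have hmap : (commutator G).map π = ⊤ := by
      rw [commutator_def, Subgroup.map_commutator, Subgroup.map_top_of_surjective _ hπ,
        ← commutator_def, hSperf]
    obtain ⟨a, ha, hs⟩ := (show s ∈ (commutator G).map π by rw [hmap]; trivial)
    exact ⟨⟨a, ha⟩, hs⟩
  have hsplit : ∀ g : G, ∃ a : D, ∃ z ∈ Subgroup.center G, g = a * z := by
    intro g
    obtain ⟨a, ha⟩ := hDsurj (π g)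
    refine ⟨a, (a : G)⁻¹ * g, (hπk _).1 (by rw [map_mul, map_inv, ha, inv_mul_cancel]), ?_⟩
    rw [mul_inv_cancel_left]
  have hperf : commutator D = ⊤ := by
    have hle : commutator G ≤ (commutator D).map D.subtype := by
      rw [commutator_def, Subgroup.commutator_le]
      intro g₁ _ g₂ _
      obtain ⟨a, z, hz, rfl⟩ := hsplit g₁
      obtain ⟨b, w, hw, rfl⟩ := hsplit g₂
      refine ⟨⁅a, b⁆, Subgroup.commutator_mem_commutator (Subgroup.mem_top a) (Subgroup.mem_top b),
        ?_⟩
      have hzc := fun v => (Subgroup.mem_center_iff.1 hz v).symm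
      have hwc := fun v => (Subgroup.mem_center_iff.1 hw v).symm
      rw [map_commutatorElement, Subgroup.subtype_apply, Subgroup.subtype_apply,
        commutatorElement_def, commutatorElement_def, mul_inv_rev, mul_inv_rev]
      calc (a : G) * b * (a : G)⁻¹ * (b : G)⁻¹
          = (a : G) * b * (a : G)⁻¹ * (w * w⁻¹) * (b : G)⁻¹ := by rw [mul_inv_cancel, mul_one]
        _ = (a : G) * (z * z⁻¹) * b * (a : G)⁻¹ * (w * w⁻¹) * (b : G)⁻¹ := by
            rw [mul_inv_cancel z, mul_one]
        _ = (a : G) * z * (b * w) * (z⁻¹ * (a : G)⁻¹) * (w⁻¹ * (b : G)⁻¹) := by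
            have e1 : (a : G) * (z * z⁻¹) * b * (a : G)⁻¹ * (w * w⁻¹) * (b : G)⁻¹ =
                (a : G) * z * (z⁻¹ * b * (a : G)⁻¹ * w) * w⁻¹ * (b : G)⁻¹ := by group
            have e2 : z⁻¹ * (b : G) * (a : G)⁻¹ * w = (b : G) * w * (z⁻¹ * (a : G)⁻¹) := by
              have hzi : ∀ v, z⁻¹ * v = v * z⁻¹ := fun v =>
                (Subgroup.mem_center_iff.1 (inv_mem hz) v).symm
              calc z⁻¹ * (b : G) * (a : G)⁻¹ * w
                  = (b : G) * (z⁻¹ * (w * (a : G)⁻¹)) := by
                    rw [hzi (b : G), mul_assoc, mul_assoc, hwc (a : G)⁻¹]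
                _ = (b : G) * w * (z⁻¹ * (a : G)⁻¹) := by
                    rw [← mul_assoc z⁻¹, hzi w]; group
            rw [e1, e2]
            group
    refine eq_top_iff.2 fun a _ => ?_
    obtain ⟨b, hb, hba⟩ := hle a.2
    rw [← show b = a from Subtype.ext hba]
    exact hb
  -- the irreducible restriction
  obtain ⟨n, ρ, hρ, hρχ⟩ := exists_rep χ
  haveI : IsSimpleOrder (Subrepresentation ρ) := hρ
  have hn : n = 15 := by
    have h0 : (χ : G → ℂ) 1 = n := by
      rw [← hρχ, Representation.char_one, Module.finrank_fin_fun]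
    rw [DegreeBounds.Basic.charDegree_irr, hd] at h0
    exact_mod_cast h0.symm
  let ψ : D → ℂ := fun a => (χ : G → ℂ) a
  let σ : Representation ℂ D (Fin n → ℂ) := ρ.comp D.subtype
  have hσψ : σ.character = ψ := funext fun a => congrFun hρχ a
  have hψ : Cfsg.IsIrrCharacter D ψ := by
    refine ⟨n, σ, ?_, hσψ⟩
    haveI : Nontrivial (Fin n → ℂ) := by
      haveI : Nonempty (Fin n) := ⟨⟨0, by omega⟩⟩
      infer_instance
    haveI : Nontrivial (Subrepresentation σ) := ⟨⟨⊥, ⊤, fun e => by
      have h1 : (⊥ : Submodule ℂ (Fin n → ℂ)) = ⊤ := congrArg Subrepresentation.toSubmodule e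
      exact bot_ne_top h1⟩⟩
    refine ⟨fun U => ?_⟩
    let V : Subrepresentation ρ :=
      { toSubmodule := U.toSubmodule
        apply_mem_toSubmodule := fun g v hv => by
          obtain ⟨a, z, hz, rfl⟩ := hsplit g
          rw [map_mul, Module.End.mul_apply, FeitSmall.Budget.rho_center ρ hρχ hz,
            LinearMap.smul_apply, Module.End.one_apply, map_smul]
          exact U.toSubmodule.smul_mem _ (U.apply_mem_toSubmodule a hv) }
    rcases IsSimpleOrder.eq_bot_or_eq_top V with h0 | h0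
    · exact Or.inl (Subrepresentation.toSubmodule_injective (congrArg Subrepresentation.toSubmodule h0 :))
    · exact Or.inr (Subrepresentation.toSubmodule_injective (congrArg Subrepresentation.toSubmodule h0 :))
  have hψfaith : ∀ a : D, ψ a = ψ 1 → a = 1 := fun a ha => Subtype.ext (hfaith _ ha)
  have hψd : Cfsg.charDegree ψ = 15 := by
    rw [← hd]
    exact BlocksChars5.Basic.charDegree_congr rfl
  have hZD : ∀ z : D, z ∈ Subgroup.center D → (z : G) ∈ Subgroup.center G := by
    intro z hz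
    refine Subgroup.mem_center_iff.2 fun g => ?_
    obtain ⟨a, w, hw, rfl⟩ := hsplit g
    have h1 : (a : G) * z = z * a := congrArg Subtype.val (Subgroup.mem_center_iff.1 hz a)
    rw [mul_assoc, ← Subgroup.mem_center_iff.1 hw (z : G), ← mul_assoc, h1, mul_assoc]
  have hz15 : ∀ z : D, z ∈ Subgroup.center D → z ^ 15 = 1 := by
    intro z hz
    have hzc := hZD z hz
    have h1 := Basic.det_of_commutator ρ (a := (z : G)) z.2
    rw [FeitSmall.Budget.rho_center ρ hρχ hzc, LinearMap.det_smul, Module.finrank_fin_fun, map_one,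
      mul_one, hn, ← DegSubTwo.Basic.lam_pow χ hzc] at h1
    refine hψfaith _ ?_
    show (χ : G → ℂ) ((z ^ 15 : D) : G) = (χ : G → ℂ) ((1 : D) : G)
    have h2 := DegSubTwo.Basic.apply_mul_central χ (pow_mem hzc 15) (1 : G)
    rw [one_mul, h1, one_mul] at h2
    simpa using h2
  have h17Z : ¬ 17 ∣ Nat.card (Subgroup.center D) := by
    intro hdvd
    obtain ⟨⟨z, hz⟩, hzo⟩ := exists_prime_orderOf_dvd_card' 17 hdvd
    rw [Subgroup.orderOf_mk] at hzo
    have := orderOf_dvd_of_pow_eq_one (hz15 z hz)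
    rw [hzo] at this
    norm_num at this
  let πD : D →* Matrix.SpecialLinearGroup (Fin 2) F := π.comp D.subtype
  have hπD : Function.Surjective πD := hDsurj
  have hkerD : πD.ker = Subgroup.center D := by
    ext a
    rw [MonoidHom.mem_ker]
    constructor
    · intro ha
      refine Subgroup.mem_center_iff.2 fun b => Subtype.ext ?_
      exact Subgroup.mem_center_iff.1 ((hπk _).1 ha) b
    · exact fun ha => (hπk _).2 (hZD a ha)
  have hcardS : Nat.card (Matrix.SpecialLinearGroup (Fin 2) F) = 4080 := by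
    rw [Linear.card_SL_two, hFc]
  have hcardD : Nat.card D = 4080 * Nat.card (Subgroup.center D) := by
    rw [Subgroup.card_eq_card_quotient_mul_card_subgroup (Subgroup.center D), ← hkerD,
      Nat.card_congr (QuotientGroup.quotientKerEquivOfSurjective πD hπD).toEquiv, hcardS]
  obtain ⟨P⟩ := (inferInstance : Nonempty (Sylow 17 D))
  have hPc : Nat.card P = 17 := by
    show Nat.card (P : Subgroup D) = 17
    rw [P.card_eq_multiplicity, hcardD, Nat.factorization_mul (by norm_num) Nat.card_pos.ne',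
      Finsupp.add_apply, Nat.factorization_eq_zero_of_not_dvd h17Z]
    have h1 : (4080 : ℕ).factorization 17 = 1 := by
      rw [show (4080 : ℕ) = 17 * 240 by norm_num, Nat.factorization_mul (by norm_num) (by norm_num),
        Finsupp.add_apply, (by norm_num : Nat.Prime 17).factorization_self,
        Nat.factorization_eq_zero_of_not_dvd (by norm_num)]
    rw [h1]
    norm_num
  have hnn : ¬ (P : Subgroup D).Normal := by
    intro hn'
    haveI := hn'
    obtain ⟨⟨u, hu⟩, huo⟩ := exists_prime_orderOf_dvd_card' (G := (P : Subgroup D)) 17 (by rw [hPc])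
    rw [Subgroup.orderOf_mk] at huo
    have heq : Subgroup.zpowers u = (P : Subgroup D) :=
      Subgroup.eq_of_le_of_card_ge (Subgroup.zpowers_le.2 hu) (by
        rw [Nat.card_zpowers, huo]; exact hPc.le)
    have hpow : ∀ a : D, ∃ i : ℤ, a * u * a⁻¹ = u ^ i := fun a => by
      obtain ⟨i, hi⟩ := Subgroup.mem_zpowers_iff.1 (heq ▸ hn'.conj_mem u hu a)
      exact ⟨i, hi.symm⟩
    have hle : commutator D ≤ Subgroup.centralizer ({u} : Set D) := by
      rw [commutator_def, Subgroup.commutator_le]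
      intro a _ b _
      obtain ⟨i, hi⟩ := hpow a
      obtain ⟨j, hj⟩ := hpow b
      rw [Subgroup.mem_centralizer_singleton_iff]
      have e1 : a * b * u * (a * b)⁻¹ = b * a * u * (b * a)⁻¹ := by
        rw [show a * b * u * (a * b)⁻¹ = a * (b * u * b⁻¹) * a⁻¹ by group, hj, ← conj_zpow, hi,
          show b * a * u * (b * a)⁻¹ = b * (a * u * a⁻¹) * b⁻¹ by group, hi, ← conj_zpow, hj,
          ← zpow_mul, ← zpow_mul, mul_comm]
      obtain ⟨k, hk⟩ := hpow (b * a)⁻¹
      have e2 : ⁅a, b⁆ * u * ⁅a, b⁆⁻¹ = u := by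
        calc ⁅a, b⁆ * u * ⁅a, b⁆⁻¹
            = a * b * ((b * a)⁻¹ * u * ((b * a)⁻¹)⁻¹) * (a * b)⁻¹ := by
              rw [commutatorElement_def]; group
          _ = (a * b * u * (a * b)⁻¹) ^ k := by rw [hk, conj_zpow]
          _ = (b * a * u * (b * a)⁻¹) ^ k := by rw [e1]
          _ = b * a * ((b * a)⁻¹ * u * ((b * a)⁻¹)⁻¹) * (b * a)⁻¹ := by rw [conj_zpow, hk]
          _ = u := by group
      calc ⁅a, b⁆ * u = ⁅a, b⁆ * u * ⁅a, b⁆⁻¹ * ⁅a, b⁆ := by group
        _ = u * ⁅a, b⁆ := by rw [e2]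
    have hzc : u ∈ Subgroup.center D := Subgroup.mem_center_iff.2 fun a =>
      Subgroup.mem_centralizer_singleton_iff.1 (hle (by rw [hperf]; trivial))
    exact h17Z (huo ▸ Subgroup.orderOf_dvd_natCard _ hzc)
  obtain ⟨a, F', iF', iFF', hpa, hFc', ⟨f⟩⟩ := Cfsg.Agent.S4705.result 17 (by norm_num) P hPc hnn ψ
    hψ hψfaith hψd
  have ha : a = 4 := by
    have h1 : 2 ^ a = 2 ^ 4 := by norm_num at hpa ⊢; omega
    exact Nat.pow_right_injective le_rfl h1
  subst ha
  have hZD1 := center_trivial hperf f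
  have hint : ∀ g, g ∈ D → g ∈ Subgroup.center G → g = 1 := fun g hg hgc =>
    congrArg Subtype.val (hZD1 ⟨g, hg⟩ (Subgroup.mem_center_iff.2 fun b =>
      Subtype.ext (Subgroup.mem_center_iff.1 hgc b)))
  let μ : D × Subgroup.center G →* G := D.subtype.noncommCoprod (Subgroup.center G).subtype
    fun a z => Subgroup.mem_center_iff.1 z.2 a
  have hμ : Function.Bijective μ := by
    refine ⟨(injective_iff_map_eq_one μ).2 fun ⟨a, z⟩ e1 => ?_, fun g => ?_⟩
    · have e2 : (a : G) * z = 1 := e1
      have e3 : (a : G) = 1 := hint _ a.2 (by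
        rw [eq_inv_of_mul_eq_one_left e2]; exact inv_mem z.2)
      rw [e3, one_mul] at e2
      exact Prod.ext (Subtype.ext e3) (Subtype.ext e2)
    · obtain ⟨a, z, hz, rfl⟩ := hsplit g
      exact ⟨(a, ⟨z, hz⟩), rfl⟩
  let f1 : D ≃* Matrix.SpecialLinearGroup (Fin 2) F' :=
    MulEquiv.ofBijective ((MonoidHom.fst _ _).comp f.toMonoidHom) ⟨fun a b hab => f.injective
      (Prod.ext hab (Subtype.ext ((hZD1 _ (f a).2.2).trans (hZD1 _ (f b).2.2).symm))),
      fun s => ⟨f.symm (s, 1), by simp⟩⟩
  obtain ⟨A, iA, iAF, ⟨g⟩⟩ :=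
    Finite.exists_type_univ_nonempty_mulEquiv.{u, 0} (Subgroup.center G)
  letI := Fintype.ofFinite (GaloisField 2 4)
  have hcardE : Fintype.card F' = Fintype.card (GaloisField 2 4) := by
    rw [hFc', ← Nat.card_eq_fintype_card, GaloisField.card 2 4 (by norm_num)]
  refine ⟨A, { iA with mul_comm := fun a b => ?_ }, inferInstance,
    ⟨(MulEquiv.ofBijective μ hμ).symm.trans
      ((f1.trans (slCongr (FiniteField.ringEquivOfCardEq hcardE))).prodCongr g)⟩⟩
  obtain ⟨a, rfl⟩ := g.surjective a
  obtain ⟨b, rfl⟩ := g.surjective b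
  rw [← map_mul, ← map_mul]
  exact congrArg g (Subtype.ext (Subgroup.mem_center_iff.1 b.2 (a : G)))

variable {p : ℕ} [Fact p.Prime] {G : Type u} [Group G] [Finite G]

/-- The main result. -/
theorem main (χ : Cfsg.IrrCharacter G) (hd : Cfsg.charDegree (χ : G → ℂ) < 27)
    (hfaith : ∀ g : G, (χ : G → ℂ) g = (χ : G → ℂ) 1 → g = 1)
    (hp : Cfsg.charDegree (χ : G → ℂ) + 1 < p) (P : Sylow p G) :
    (P : Subgroup G).Normal ∨
    (Nonempty ((G ⧸ Subgroup.center G) ≃* Matrix.ProjectiveSpecialLinearGroup (Fin 2) (ZMod p)) ∧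
      (2 * Cfsg.charDegree (χ : G → ℂ) + 1 = p ∨ 2 * Cfsg.charDegree (χ : G → ℂ) = p + 1)) ∨
    (p = 17 ∧ Cfsg.charDegree (χ : G → ℂ) = 15 ∧ Large.IsSixteen G) ∨
    (p = 7 ∧ Cfsg.charDegree (χ : G → ℂ) = 4 ∧
      Nonempty ((G ⧸ Subgroup.center G) ≃* ↥(alternatingGroup (Fin 7)))) ∨
    (p = 5 ∧ Cfsg.charDegree (χ : G → ℂ) = 3 ∧
      Nonempty ((G ⧸ Subgroup.center G) ≃* ↥(alternatingGroup (Fin 6)))) := by
  classical
  by_cases hnc : Noncomm p G
  swap
  · refine Or.inl (normal_of_commute P fun a b ha hb => ?_)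
    by_contra hab
    exact hnc ⟨a, b, ha, hb, hab⟩
  right
  have hppr : p.Prime := Fact.out
  set d := Cfsg.charDegree (χ : G → ℂ) with hddef
  have hd0 : 0 < d := BlocksChars5.Basic.degree_pos χ
  obtain ⟨a, b, ha, hb, hab⟩ := hnc
  have hcomm_iff : ∀ u v : G, (χ : G → ℂ) (u * v * u⁻¹ * v⁻¹) = (χ : G → ℂ) 1 → Commute u v := by
    intro u v e
    have h1 := hfaith _ e
    rw [mul_inv_eq_one, mul_inv_eq_iff_eq_mul] at h1
    exact h1
  have hd2 : 2 ≤ d := by
    by_contra hcon
    obtain ⟨n, ρ, -, hρχ⟩ := exists_rep χ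
    have hn : n = 1 := by
      have h0 : (χ : G → ℂ) 1 = n := by
        rw [← hρχ, Representation.char_one, Module.finrank_fin_fun]
      rw [DegreeBounds.Basic.charDegree_irr] at h0
      have h1 : d = n := by exact_mod_cast h0
      omega
    subst hn
    refine hab (hcomm_iff a b ?_)
    have hc : ∀ A B : Module.End ℂ (Fin 1 → ℂ), A * B = B * A := fun A B =>
      LinearMap.toMatrix'.injective (by
        rw [Module.End.mul_eq_comp, Module.End.mul_eq_comp, LinearMap.toMatrix'_comp,
          LinearMap.toMatrix'_comp]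
        ext i j
        fin_cases i; fin_cases j
        simp [Matrix.mul_apply, mul_comm])
    rw [← hρχ, Representation.character, Representation.character]
    congr 1
    rw [map_mul, map_mul, map_mul, hc (ρ a) (ρ b), mul_assoc (ρ b), ← map_mul ρ a, mul_inv_cancel,
      map_one, mul_one, ← map_mul, mul_inv_cancel, map_one]
  obtain ⟨K, _, _, φ, L, π, hφf, hφd, hcen, hπ, hπker, hLpel, -, -, hLcomm, -⟩ :=
    Sixteen80.Normalise.exists_norm (p := p) χ (by omega)
  have hp5 : 5 ≤ p := by
    by_contra hcon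
    interval_cases p <;> first | omega | norm_num at hppr
  have hab' : ¬ Commute (L a) (L b) := fun hc => hab (hcomm_iff a b (hLcomm a b ha hb hc))
  have hncK : Noncomm p K := ⟨L a, L b, hLpel a ha, hLpel b hb, hab'⟩
  have hdK : Cfsg.charDegree (φ : K → ℂ) + 1 < p := by omega
  have hsq := Prime.not_sq_dvd φ hp5 hφf hdK hcen hncK
  have hLa : L a ≠ 1 := fun e => hab' (e ▸ Commute.one_left _)
  obtain ⟨j, hj⟩ := (hLpel a ha).exists_order hLa
  obtain ⟨k, hk⟩ : ∃ k : K, orderOf k = p := ⟨_, hj⟩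
  have h := Reduce.hyp_of_sq hφf hp5 hdK hncK hsq hk
  have hker : π.ker = Subgroup.center G := by
    ext g
    rw [MonoidHom.mem_ker, hπker, Subgroup.mem_center_iff]
    constructor
    · intro hg v
      exact (hcomm_iff g v (hg v)).eq.symm
    · intro hg v
      rw [← hg v, mul_inv_cancel_right, mul_inv_cancel]
  let e1 : G ⧸ Subgroup.center G ≃* K ⧸ Subgroup.center K :=
    (QuotientGroup.quotientMulEquivOfEq hker.symm).trans
      (QuotientGroup.quotientKerEquivOfSurjective π hπ)
  have hle := Setup.le_deg h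
  have hdiv := Setup.prime_dvd_card h
  have hhalf : 2 * d + 1 = p → Nonempty ((G ⧸ Subgroup.center G) ≃*
      Matrix.ProjectiveSpecialLinearGroup (Fin 2) (ZMod p)) := fun e =>
    (Cfsg.Agent.S4504.result p hppr hdiv h.sq h.nn (φ : K → ℂ) (isCharacter_irr φ) hφf
      (by rw [hφd]; exact e)).map e1.trans
  rw [hφd] at hle
  by_cases h11 : 7 < p
  · rcases Large.main (⟨h11, h.ord, h.sq, h.nn, h.deg, h.faith⟩ : FeitSmall.Setup.Hyp p k φ)
      (by omega) with ⟨he, hc⟩ | ⟨h17, h15, F, iF, iFF, hFc, he⟩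
    · exact Or.inl ⟨he.map e1.trans, by rwa [hφd] at hc⟩
    · exact Or.inr (Or.inl ⟨h17, by omega, F, iF, iFF, hFc, he.map e1.trans⟩)
  have hp57 : p = 5 ∨ p = 7 := by
    rcases (by omega : p = 5 ∨ p = 6 ∨ p = 7) with e | e | e
    · exact Or.inl e
    · rw [e] at hppr; norm_num at hppr
    · exact Or.inr e
  rcases hp57 with rfl | rfl
  · rcases (by omega : d = 2 ∨ d = 3) with e | e
    · exact Or.inl ⟨hhalf (by omega), by omega⟩
    · rcases Five.main h (by omega) with he | he
      · exact Or.inl ⟨he.map e1.trans, by omega⟩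
      · exact Or.inr (Or.inr (Or.inr ⟨rfl, e, he.map e1.trans⟩))
  · rcases (by omega : d = 3 ∨ d = 4 ∨ d = 5) with e | e | e
    · exact Or.inl ⟨hhalf (by omega), by omega⟩
    · rcases Seven.main h (by omega) with he | he
      · exact Or.inl ⟨he.map e1.trans, by omega⟩
      · exact Or.inr (Or.inr (Or.inl ⟨rfl, e, he.map e1.trans⟩))
    · exfalso
      obtain ⟨Q, hQ⟩ := FirstPower.Consequences.exists_sylow h.ord h.sq
      have hQc : Nat.card Q = 7 := by
        show Nat.card (Q : Subgroup K) = 7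
        rw [hQ, Nat.card_zpowers, h.ord]
      obtain ⟨c, -, -, -, hc, -, -⟩ := Cfsg.Agent.S4705.result 7 (by norm_num) Q hQc
        (fun hn => h.nn _ hn hQc) (φ : K → ℂ) φ.2 hφf (hφd.trans e)
      have h1 : c < 3 := by
        by_contra hcon
        have := Nat.pow_le_pow_right (show 0 < 2 by norm_num) (show 3 ≤ c by omega)
        omega
      interval_cases c <;> norm_num at hc

end Cfsg.Agent.Lib.Small80.Main
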